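import Mathlib

/-!
# Counting form of Galois descent for finite commutative rings

`E` acts on the finite commutative ring `R` and semilinearly on the `R`-module `M`; the fixed
ring is a field and there are `c i, d i` with `∑ c i * x (d i) = δ (x, 1)`.  Then `M` has
`|fixed points| ^ |E|` elements.
-/

set_option autoImplicit false

namespace Cfsg.Agent.H1

open Finset

theorem descent_card {R M E ι : Type*} [CommRing R] [Finite R] [Nontrivial R] [AddCommGroup M]
    [Finite M] [Module R M] [Group E] [Fintype E] [Fintype ι] [DecidableEq E]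
    (σ : E →* (R ≃+* R)) (τ : E → M →+ M) (hτ : ∀ x y m, τ (x * y) m = τ x (τ y m))
    (hτ1 : ∀ m, τ 1 m = m) (hsemi : ∀ x (r : R) m, τ x (r • m) = σ x r • τ x m)
    (hfield : ∀ r : R, (∀ x, σ x r = r) → r ≠ 0 → IsUnit r) (c d : ι → R)
    (hcd : ∀ x, ∑ i, c i * σ x (d i) = if x = 1 then 1 else 0) :
    Nat.card M = Nat.card {m : M // ∀ x, τ x m = m} ^ Fintype.card E := by
  classical
  let S : Subring R :=
    { carrier := {r | ∀ x, σ x r = r}
      mul_mem' := fun ha hb x => by rw [map_mul, ha x, hb x]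
      one_mem' := fun x => map_one _
      add_mem' := fun ha hb x => by rw [map_add, ha x, hb x]
      zero_mem' := fun x => map_zero _
      neg_mem' := fun ha x => by rw [map_neg, ha x] }
  have hSf : IsField S := by
    refine ⟨⟨0, 1, zero_ne_one⟩, mul_comm, fun {a} ha => ?_⟩
    obtain ⟨u, hu⟩ := hfield a a.2 fun h => ha (Subtype.ext h)
    refine ⟨⟨(↑u⁻¹ : R), fun x => ?_⟩, Subtype.ext ?_⟩
    · have h1 : σ x (↑u⁻¹ : R) * σ x (a : R) = 1 := by
        rw [← map_mul, ← hu, Units.inv_mul, map_one]
      rw [a.2 x, ← hu] at h1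
      exact Units.eq_inv_of_mul_eq_one_left (by rw [mul_comm]; exact h1)
    · show (a : R) * (↑u⁻¹ : R) = 1
      rw [← hu, Units.mul_inv]
  letI : Field S := hSf.toField
  letI : Module S M := Module.compHom M S.subtype
  have hSsmul : ∀ (s : S) (m : M), s • m = (s : R) • m := fun _ _ => rfl
  let F : Submodule S M :=
    { carrier := {m | ∀ x, τ x m = m}
      add_mem' := fun ha hb x => by rw [map_add, ha x, hb x]
      zero_mem' := fun x => map_zero _
      smul_mem' := fun s m hm x => by rw [hSsmul, hsemi, s.2 x, hm x] }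
  have hdc : ∀ x, ∑ i, d i * σ x (c i) = if x = 1 then 1 else 0 := by
    intro x
    have h := congrArg (σ x) (hcd x⁻¹)
    rw [map_sum] at h
    simp only [map_mul, ← RingEquiv.coe_toEquiv] at h
    refine Eq.trans (Finset.sum_congr rfl fun i _ => ?_) (h.trans ?_)
    · show d i * σ x (c i) = σ x (c i) * σ x (σ x⁻¹ (d i))
      rw [← RingAut.mul_apply, ← map_mul, mul_inv_cancel, map_one, mul_comm]
      rfl
    · rw [RingEquiv.coe_toEquiv, apply_ite (σ x), map_one, map_zero]
      simp [inv_eq_one]
  have tr_mem : ∀ r : R, ∑ x, σ x r ∈ S := fun r y => by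
    rw [map_sum]
    exact Fintype.sum_equiv (Equiv.mulLeft y) _ _ fun x => by
      show σ y (σ x r) = σ (y * x) r
      rw [map_mul]
      rfl
  have trM_mem : ∀ m : M, ∑ x, τ x m ∈ F := fun m y => by
    rw [map_sum]
    exact Fintype.sum_equiv (Equiv.mulLeft y) _ _ fun x => (hτ y x m).symm
  -- the descent isomorphism
  let A : M → (R →ₗ[S] F) := fun m =>
    { toFun := fun r => ⟨∑ x, τ x (r • m), trM_mem _⟩
      map_add' := fun r r' => Subtype.ext (by
        show ∑ x, τ x ((r + r') • m) = ∑ x, τ x (r • m) + ∑ x, τ x (r' • m)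
        simp only [add_smul, map_add, sum_add_distrib])
      map_smul' := fun s r => Subtype.ext (by
        show ∑ x, τ x ((s • r) • m) = (s : R) • ∑ x, τ x (r • m)
        rw [Finset.smul_sum]
        refine sum_congr rfl fun x _ => ?_
        rw [show (s • r : R) = (s : R) * r from rfl, mul_smul, hsemi, s.2 x]) }
  let B : (R →ₗ[S] F) → M := fun φ => ∑ i, c i • (φ (d i) : M)
  have hBA : ∀ m, B (A m) = m := by
    intro m
    show ∑ i, c i • (∑ x, τ x (d i • m)) = m
    simp only [Finset.smul_sum, hsemi, smul_smul]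
    rw [sum_comm]
    simp only [← Finset.sum_smul, hcd, ite_smul, one_smul, zero_smul]
    rw [Fintype.sum_ite_eq', hτ1]
  have hAB : ∀ φ, A (B φ) = φ := by
    intro φ
    refine LinearMap.ext fun r => Subtype.ext ?_
    show ∑ x, τ x (r • ∑ i, c i • (φ (d i) : M)) = (φ r : M)
    have key : ∀ i, ∑ x, τ x (r • (c i • (φ (d i) : M))) =
        ((φ ((⟨_, tr_mem (r * c i)⟩ : S) • d i) : F) : M) := by
      intro i
      rw [map_smul]
      show _ = (∑ x, σ x (r * c i)) • (φ (d i) : M)
      rw [Finset.sum_smul]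
      refine sum_congr rfl fun x _ => ?_
      rw [smul_smul, hsemi, (φ (d i)).2 x]
    simp only [Finset.smul_sum, map_sum]
    rw [sum_comm]
    simp only [key]
    rw [← Submodule.coe_sum, ← map_sum]
    congr 2
    show ∑ i, (∑ x, σ x (r * c i)) * d i = r
    simp only [Finset.sum_mul, map_mul]
    rw [sum_comm]
    have : ∀ x, ∑ i, σ x r * σ x (c i) * d i = σ x r * if x = 1 then 1 else 0 := fun x => by
      rw [← hdc x, Finset.mul_sum]
      exact sum_congr rfl fun i _ => by ring
    simp only [this, mul_ite, mul_one, mul_zero, Fintype.sum_ite_eq', map_one]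
    rfl
  have e1 : Nat.card M = Nat.card (R →ₗ[S] F) :=
    Nat.card_congr ⟨A, B, hBA, hAB⟩
  -- the rank of `R`
  let P : (E → R) → (R →ₗ[S] R) := fun f =>
    { toFun := fun r => ∑ x, f x * σ x r
      map_add' := fun r r' => by simp only [map_add, mul_add, sum_add_distrib]
      map_smul' := fun s r => by
        show ∑ x, f x * σ x ((s : R) * r) = (s : R) * ∑ x, f x * σ x r
        rw [Finset.mul_sum]
        refine sum_congr rfl fun x _ => ?_
        rw [map_mul, s.2 x]
        ring }
  let Q : (R →ₗ[S] R) → (E → R) := fun φ x => ∑ i, φ (c i) * σ x (d i)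
  have hQP : ∀ f, Q (P f) = f := by
    intro f
    funext y
    show ∑ i, (∑ x, f x * σ x (c i)) * σ y (d i) = f y
    simp only [Finset.sum_mul]
    rw [sum_comm]
    have : ∀ x, ∑ i, f x * σ x (c i) * σ y (d i) = f x * if x⁻¹ * y = 1 then 1 else 0 := fun x => by
      have h := congrArg (σ x) (hcd (x⁻¹ * y))
      rw [map_sum, apply_ite (σ x), map_one, map_zero] at h
      rw [← h, Finset.mul_sum]
      refine sum_congr rfl fun i _ => ?_
      rw [map_mul (σ x) (c i), ← RingAut.mul_apply, ← map_mul, mul_inv_cancel_left, mul_assoc]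
    simp only [this, mul_ite, mul_one, mul_zero, inv_mul_eq_one, Fintype.sum_ite_eq']
  have hPQ : ∀ φ, P (Q φ) = φ := by
    intro φ
    refine LinearMap.ext fun r => ?_
    show ∑ x, (∑ i, φ (c i) * σ x (d i)) * σ x r = φ r
    have key : ∀ i, ∑ x, φ (c i) * σ x (d i) * σ x r = φ ((⟨_, tr_mem (d i * r)⟩ : S) • c i) := by
      intro i
      rw [map_smul]
      show _ = (∑ x, σ x (d i * r)) * φ (c i)
      rw [Finset.sum_mul]
      exact sum_congr rfl fun x _ => by rw [map_mul]; ring
    simp only [Finset.sum_mul]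
    rw [sum_comm]
    simp only [key]
    rw [← map_sum]
    congr 1
    show ∑ i, (∑ x, σ x (d i * r)) * c i = r
    simp only [Finset.sum_mul, map_mul]
    rw [sum_comm]
    have : ∀ x, ∑ i, σ x (d i) * σ x r * c i = σ x r * if x = 1 then 1 else 0 := fun x => by
      rw [← hcd x, Finset.mul_sum]
      exact sum_congr rfl fun i _ => by ring
    simp only [this, mul_ite, mul_one, mul_zero, Fintype.sum_ite_eq', map_one]
    rfl
  have e2 : Nat.card (E → R) = Nat.card (R →ₗ[S] R) := Nat.card_congr ⟨P, Q, hQP, hPQ⟩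
  rw [Module.natCard_eq_pow_finrank (K := S) (V := R →ₗ[S] R), Module.finrank_linearMap,
    Nat.card_fun, Module.natCard_eq_pow_finrank (K := S) (V := R), ← pow_mul,
    Nat.card_eq_fintype_card (α := E)] at e2
  have hd : Fintype.card E = Module.finrank S R :=
    Nat.eq_of_mul_eq_mul_left Module.finrank_pos
      (Nat.pow_right_injective (Finite.one_lt_card : 1 < Nat.card S) e2)
  show Nat.card M = Nat.card F ^ _
  rw [e1, Module.natCard_eq_pow_finrank (K := S) (V := R →ₗ[S] F), Module.finrank_linearMap,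
    Module.natCard_eq_pow_finrank (K := S) (V := F), ← pow_mul, hd, mul_comm]

end Cfsg.Agent.H1
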