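import Cfsg.Agent.OddOrder.PF9.FrobDichotomy
import Cfsg.Agent.H1.GaloisDescent
import Cfsg.Agent.Coprime.Action
import Cfsg.Agent.Frobenius.Nilpotent

/-!
# The Frobenius-Wielandt fixed point formula (Peterfalvi (9.1))

`U ⊔ E` is a Frobenius group with kernel `U` acting coprimely on the solvable group `H`; then
`|C_H(UE)| ^ |E| * |H| = |C_H(E)| ^ |E| * |C_H(U)|`.
-/

set_option autoImplicit false

namespace Cfsg.Agent.H1

open Subgroup OddOrder
open scoped IsMulCommutative

universe u

variable {X : Type u} [Group X]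

/-- The hypotheses of the formula. -/
structure FWHyp (U E H : Subgroup X) : Prop where
  normE : E ≤ normalizer (U : Set X)
  fpf : ∀ e ∈ E, e ≠ 1 → ∀ a ∈ U, e * a = a * e → a = 1
  normH : U ⊔ E ≤ normalizer (H : Set X)
  solvable : Group.IsSolvable H
  coprime : (Nat.card H).Coprime (Nat.card ↥(U ⊔ E))

/-- The irreducible case with abelian action of `U`. -/
theorem fw_base [Finite X] {H U E : Subgroup X} [IsMulCommutative H] (h : FWHyp U E H)
    {p : ℕ} (hp : p.Prime) (hexp : ∀ x ∈ H, x ^ p = 1) (hne : H ≠ ⊥)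
    (hmin : ∀ N : Subgroup X, N ≤ H → U ≤ normalizer (N : Set X) → E ≤ normalizer (N : Set X) →
      N = ⊥ ∨ N = H)
    (hfix : H ⊓ centralizer (U : Set X) = ⊥)
    (hcomm : ∀ a ∈ U, ∀ b ∈ U, a * b * a⁻¹ * b⁻¹ ∈ centralizer (H : Set X)) :
    Nat.card H = Nat.card ↥(H ⊓ centralizer (E : Set X)) ^ Nat.card E := by
  classical
  haveI : Fintype E := Fintype.ofFinite _
  haveI : Fintype U := Fintype.ofFinite _
  haveI := Fact.mk hp
  have hUH : U ≤ normalizer (H : Set X) := le_sup_left.trans h.normH
  have hEH : E ≤ normalizer (H : Set X) := le_sup_right.trans h.normH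
  have : Nontrivial H := (Subgroup.nontrivial_iff_ne_bot H).2 hne
  haveI : Finite (AddMonoid.End (Additive H)) :=
    Finite.of_injective (fun f => (f : Additive H → Additive H)) DFunLike.coe_injective
  let R := ChiefData.ring H U
  let T := ChiefData.opE (H := H) hEH
  let ρ : U → AddMonoid.End (Additive H) := fun a => ChiefData.act H ⟨a, hUH a.2⟩
  have hρ : ∀ a b : U, ρ (a * b) = ρ a * ρ b := fun a b =>
    ChiefData.act_mul H ⟨a, hUH a.2⟩ ⟨b, hUH b.2⟩
  have hρ1 : ρ 1 = 1 := ChiefData.act_one H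
  have hρmem : ∀ a : U, ρ a ∈ R := fun a => ChiefData.act_mem_ring a.2
  have hTT : ∀ x : E, T x * T x⁻¹ = 1 := fun x => by rw [← map_mul, mul_inv_cancel, map_one]
  have hTT' : ∀ x : E, T x⁻¹ * T x = 1 := fun x => by rw [← map_mul, inv_mul_cancel, map_one]
  have hcommR : ∀ a ∈ R, ∀ b ∈ R, a * b = b * a := by
    intro a ha b hb
    refine Subring.closure_induction₂ (p := fun x y _ _ => x * y = y * x) ?_ ?_ ?_ ?_ ?_ ?_ ?_ ?_ ?_
      ?_ ?_ ha hb
    · rintro _ _ ⟨g, hg, rfl⟩ ⟨g', hg', rfl⟩
      have h1 : ChiefData.act H (g * g' * g⁻¹ * g'⁻¹) = 1 :=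
        (ChiefData.act_eq_one_iff H _).2 (by simpa using hcomm _ hg _ hg')
      have h2 : ChiefData.act H (g * g' * g⁻¹ * g'⁻¹) * ChiefData.act H (g' * g) =
          ChiefData.act H (g * g') := by
        rw [← ChiefData.act_mul]
        congr 1
        group
      rw [h1, one_mul, ChiefData.act_mul, ChiefData.act_mul] at h2
      exact h2.symm
    · intros; rw [zero_mul, mul_zero]
    · intros; rw [zero_mul, mul_zero]
    · intros; rw [one_mul, mul_one]
    · intros; rw [one_mul, mul_one]
    · intro x y _ _ h; exact Commute.neg_left (h : Commute x y)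
    · intro x y _ _ h; exact Commute.neg_right (h : Commute x y)
    · intro x y z _ _ _ h h'; rw [add_mul, mul_add, h, h']
    · intro x y z _ _ _ h h'; rw [add_mul, mul_add, h, h']
    · intro x y z _ _ _ h h'; rw [mul_assoc, h', ← mul_assoc, h, mul_assoc]
    · intro x y z _ _ _ h h'; rw [← mul_assoc, h, mul_assoc, h', mul_assoc]
  have hconjR : ∀ (x : E), ∀ r ∈ R, T x * r * T x⁻¹ ∈ R := by
    intro x r hr
    induction hr using Subring.closure_induction with
    | mem y hy =>
      obtain ⟨g, hg, rfl⟩ := hy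
      show ChiefData.act H _ * ChiefData.act H g * ChiefData.act H _ ∈ _
      rw [← ChiefData.act_mul, ← ChiefData.act_mul]
      refine ChiefData.act_mem_ring ?_
      simpa using Coprime.conj_mem (h.normE x.2) hg
    | zero => rw [mul_zero, zero_mul]; exact zero_mem _
    | one => rw [mul_one, hTT]; exact one_mem _
    | add a b _ _ iha ihb => rw [mul_add, add_mul]; exact add_mem iha ihb
    | neg a _ ih =>
      rw [show T x * -a * T x⁻¹ = -(T x * a * T x⁻¹) from DFunLike.ext _ _ fun v => map_neg (T x) _]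
      exact neg_mem ih
    | mul a b _ _ iha ihb =>
      rw [show T x * (a * b) * T x⁻¹ = (T x * a * T x⁻¹) * (T x * b * T x⁻¹) by
        simp only [mul_assoc]; rw [← mul_assoc (T x⁻¹) (T x), hTT', one_mul]]
      exact mul_mem iha ihb
  letI : CommRing R :=
    { (inferInstance : Ring R) with mul_comm := fun a b => Subtype.ext (hcommR a a.2 b b.2) }
  haveI : Nontrivial R := ⟨0, 1, fun e => by
    obtain ⟨v, hv⟩ := exists_ne (0 : Additive H)
    exact hv (DFunLike.congr_fun (congrArg Subtype.val e) v).symm⟩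
  letI : Module R (Additive H) :=
    { smul := fun r v => (r : AddMonoid.End (Additive H)) v
      one_smul := fun v => rfl
      mul_smul := fun r r' v => rfl
      smul_zero := fun r => map_zero (r : AddMonoid.End (Additive H))
      smul_add := fun r a b => map_add (r : AddMonoid.End (Additive H)) a b
      add_smul := fun r r' v => rfl
      zero_smul := fun v => rfl }
  let cj : E → R → R := fun x r => ⟨_, hconjR x r r.2⟩
  have cj_cj : ∀ x y r, cj x (cj y r) = cj (x * y) r := fun x y r => Subtype.ext (by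
    show T x * (T y * (r : AddMonoid.End (Additive H)) * T y⁻¹) * T x⁻¹ = T (x * y) * r * T (x * y)⁻¹
    rw [mul_inv_rev, map_mul, map_mul]
    simp only [mul_assoc])
  have cj_one : ∀ r, cj 1 r = r := fun r => Subtype.ext (by
    show T 1 * (r : AddMonoid.End (Additive H)) * T 1⁻¹ = r
    rw [inv_one, map_one, one_mul, mul_one])
  let σ : E →* (R ≃+* R) := MonoidHom.mk'
    (fun x =>
      { toFun := cj x
        invFun := cj x⁻¹
        left_inv := fun r => by rw [cj_cj, inv_mul_cancel, cj_one]
        right_inv := fun r => by rw [cj_cj, mul_inv_cancel, cj_one]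
        map_mul' := fun a b => Subtype.ext (by
          show T x * ((a : AddMonoid.End (Additive H)) * b) * T x⁻¹ =
            (T x * a * T x⁻¹) * (T x * b * T x⁻¹)
          simp only [mul_assoc]
          rw [← mul_assoc (T x⁻¹) (T x), hTT', one_mul])
        map_add' := fun a b => Subtype.ext (by
          show T x * ((a : AddMonoid.End (Additive H)) + b) * T x⁻¹ = _
          rw [mul_add, add_mul]
          rfl) })
    (fun x y => RingEquiv.ext fun r => (cj_cj x y r).symm)
  have hn : ∃ a : R, (Fintype.card U : R) * a = 1 := by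
    have hcp : (Nat.card U).Coprime p := by
      refine (Nat.Coprime.coprime_dvd_left (Subgroup.card_dvd_of_le (le_sup_left : U ≤ U ⊔ E)) ?_)
      refine (h.coprime.coprime_dvd_left ?_).symm
      obtain ⟨⟨z, hz⟩, hz1⟩ := exists_ne (1 : H)
      have ho : orderOf (⟨z, hz⟩ : H) = p :=
        orderOf_eq_prime (Subtype.ext (by simpa using hexp z hz)) hz1
      exact ho ▸ orderOf_dvd_natCard _
    rw [Nat.card_eq_fintype_card] at hcp
    have hp0 : (p : R) = 0 := Subtype.ext (DFunLike.ext _ _ fun v => by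
      rw [Subring.coe_natCast, Subring.coe_zero, AddMonoid.End.natCast_apply]
      show p • v = 0
      apply Additive.toMul.injective
      exact Subtype.ext (by simpa using hexp _ (Additive.toMul v : H).2))
    have hb := congrArg (fun z : ℤ => (z : R)) (Nat.gcd_eq_gcd_ab (Fintype.card U) p)
    simp only [hcp.gcd_eq_one, Int.cast_add, Int.cast_mul, Int.cast_natCast, hp0, zero_mul,
      add_zero, Nat.cast_one, Int.cast_one] at hb
    exact ⟨_, hb.symm⟩
  obtain ⟨ninv, hninv⟩ := hn
  have hUsum : ∑ a : U, (⟨ρ a, hρmem a⟩ : R) = 0 := by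
    refine Subtype.ext (DFunLike.ext _ _ fun v => ?_)
    rw [AddSubmonoidClass.coe_finsetSum]
    show (∑ a : U, ρ a : AddMonoid.End (Additive H)) v = 0
    set w := (∑ a : U, ρ a : AddMonoid.End (Additive H)) v with hw
    have hwfix : ∀ b : U, ρ b w = w := by
      intro b
      show (ρ b * ∑ a : U, ρ a) v = (∑ a : U, ρ a : AddMonoid.End (Additive H)) v
      congr 1
      rw [Finset.mul_sum]
      exact Fintype.sum_equiv (Equiv.mulLeft b) _ _ fun a => (hρ b a).symm
    have hmem : ((Additive.toMul w : H) : X) ∈ H ⊓ centralizer (U : Set X) := by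
      refine ⟨(Additive.toMul w : H).2, mem_centralizer_iff.2 fun b hb => ?_⟩
      have h1 := congrArg (fun t => ((Additive.toMul t : H) : X)) (hwfix ⟨b, hb⟩)
      exact mul_inv_eq_iff_eq_mul.1 h1
    rw [hfix, mem_bot] at hmem
    exact Additive.toMul.injective (Subtype.ext hmem)
  have hmain := descent_card (R := R) (M := Additive H) σ (fun x => T x)
    (fun x y m => by
      show T (x * y) m = T x (T y m)
      rw [map_mul]
      rfl)
    (fun m => by
      show T 1 m = m
      rw [map_one]
      rfl)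
    (fun x r m => by
      show T x ((r : AddMonoid.End (Additive H)) m) =
        (T x * (r : AddMonoid.End (Additive H)) * T x⁻¹) (T x m)
      show _ = T x ((r : AddMonoid.End (Additive H)) ((T x⁻¹ * T x) m))
      rw [hTT']
      rfl)
    ?_ (fun a : U => ninv * ⟨ρ a, hρmem a⟩) (fun a : U => ⟨ρ a⁻¹, hρmem a⁻¹⟩) ?_
  · rw [show Nat.card H = Nat.card (Additive H) from rfl, hmain, Nat.card_eq_fintype_card (α := E)]
    congr 1
    refine Nat.card_congr
      { toFun := fun m => ⟨(Additive.toMul m.1 : H), (Additive.toMul m.1 : H).2,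
          (ChiefData.mem_fix_iff (hE := hEH) _).2 m.2⟩
        invFun := fun y => ⟨Additive.ofMul ⟨y, y.2.1⟩, (ChiefData.mem_fix_iff (hE := hEH) _).1 y.2.2⟩
        left_inv := fun m => rfl
        right_inv := fun y => rfl }
  · intro r hr hr0
    let K : AddSubgroup (Additive H) :=
      ((r : AddMonoid.End (Additive H)) : Additive H →+ Additive H).ker
    have hKU : ChiefData.Inv U K := fun g hg v hv => by
      show ((r : AddMonoid.End (Additive H)) * ChiefData.act H g) v = 0
      rw [hcommR r r.2 _ (ChiefData.act_mem_ring hg)]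
      show ChiefData.act H g ((r : AddMonoid.End (Additive H)) v) = 0
      rw [show (r : AddMonoid.End (Additive H)) v = 0 from hv, map_zero]
    have hKE : ChiefData.Inv E K := fun g hg v hv => by
      let x : E := ⟨g, hg⟩
      have h1 : (r : AddMonoid.End (Additive H)) * T x = T x * r := by
        conv_lhs => rw [← congrArg Subtype.val (hr x)]
        show T x * (r : AddMonoid.End (Additive H)) * T x⁻¹ * T x = _
        rw [mul_assoc, hTT', mul_one]
      show ((r : AddMonoid.End (Additive H)) * T x) v = 0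
      rw [h1]
      show T x ((r : AddMonoid.End (Additive H)) v) = 0
      rw [show (r : AddMonoid.End (Additive H)) v = 0 from hv, map_zero]
    rcases hmin _ (ChiefData.lift_le K) (ChiefData.lift_normalizer hUH hKU)
      (ChiefData.lift_normalizer hEH hKE) with hb | hb
    · have hinj : Function.Injective (fun v => (r : AddMonoid.End (Additive H)) v) := by
        refine (injective_iff_map_eq_zero
          ((r : AddMonoid.End (Additive H)) : Additive H →+ Additive H)).2 fun v hv => ?_
        have h1 : ((Additive.toMul v : H) : X) ∈ ChiefData.lift K :=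
          (ChiefData.mem_lift K _).2 hv
        rw [hb, mem_bot] at h1
        exact Additive.toMul.injective (Subtype.ext h1)
      refine IsUnit.of_mul_eq_one _ (Classical.choose_spec
        ((Finite.injective_iff_surjective (f := fun s : R => r * s)).1 (fun s s' e => ?_) 1))
      exact Subtype.ext (DFunLike.ext _ _ fun v =>
        hinj (DFunLike.congr_fun (congrArg Subtype.val e) v))
    · refine absurd (Subtype.ext (DFunLike.ext _ _ fun v => ?_)) hr0
      have h1 : ((Additive.toMul v : H) : X) ∈ ChiefData.lift K := hb.ge (Additive.toMul v : H).2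
      exact (ChiefData.mem_lift K _).1 h1
  · intro x
    have hterm : ∀ a : U, ninv * (⟨ρ a, hρmem a⟩ : R) * σ x ⟨ρ a⁻¹, hρmem a⁻¹⟩ =
        ninv * ⟨ρ (a * ⟨(x : X) * (a : X)⁻¹ * (x : X)⁻¹,
          Coprime.conj_mem (h.normE x.2) (U.inv_mem a.2)⟩), hρmem _⟩ := by
      intro a
      rw [mul_assoc]
      congr 1
      refine Subtype.ext (Eq.trans ?_ (hρ _ _).symm)
      show ρ a * (T x * ρ a⁻¹ * T x⁻¹) = ρ a * ρ _
      congr 1
      show ChiefData.act H _ * ChiefData.act H _ * ChiefData.act H _ = _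
      rw [← ChiefData.act_mul, ← ChiefData.act_mul]
      congr 1
    simp only [hterm, ← Finset.mul_sum]
    split_ifs with hx
    · subst hx
      rw [Finset.sum_congr rfl fun a _ => show _ = (1 : R) from Subtype.ext (by
        show ρ _ = 1
        rw [← hρ1]
        congr 1
        exact Subtype.ext (by simp)), Finset.sum_const, Finset.card_univ, nsmul_eq_mul, mul_one,
        mul_comm, hninv]
    · let φ : U → U := fun a =>
        a * ⟨(x : X) * (a : X)⁻¹ * (x : X)⁻¹, Coprime.conj_mem (h.normE x.2) (U.inv_mem a.2)⟩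
      have hφ : Function.Bijective φ := by
        refine Finite.injective_iff_bijective.1 fun a b e => ?_
        have e' : (a : X) * ((x : X) * (a : X)⁻¹ * (x : X)⁻¹) =
            (b : X) * ((x : X) * (b : X)⁻¹ * (x : X)⁻¹) := congrArg Subtype.val e
        have h1 := h.fpf x x.2 (fun e => hx (Subtype.ext e)) ((b : X)⁻¹ * a)
          (U.mul_mem (U.inv_mem b.2) a.2) (by
            calc (x : X) * ((b : X)⁻¹ * a) =
                ((b : X)⁻¹ * ((b : X) * ((x : X) * (b : X)⁻¹ * (x : X)⁻¹))) * (x : X) * a := by group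
              _ = ((b : X)⁻¹ * ((a : X) * ((x : X) * (a : X)⁻¹ * (x : X)⁻¹))) * (x : X) * a := by rw [e']
              _ = (b : X)⁻¹ * a * x := by group)
        exact Subtype.ext (inv_mul_eq_one.1 h1).symm
      rw [Fintype.sum_bijective φ hφ (fun a => (⟨ρ (φ a), hρmem _⟩ : R))
        (fun a => (⟨ρ a, hρmem a⟩ : R)) (fun a => rfl), hUsum, mul_zero]

theorem fw_card (n : ℕ) : ∀ {X : Type u} [Group X] [Finite X] (U E H : Subgroup X),
    Nat.card U + Nat.card H ≤ n → U ≠ ⊥ → E ≠ ⊥ → U ⊓ E = ⊥ → H ⊓ (U ⊔ E) = ⊥ → FWHyp U E H →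
    Nat.card ↥(H ⊓ centralizer ((U ⊔ E : Subgroup X) : Set X)) ^ Nat.card E * Nat.card H =
      Nat.card ↥(H ⊓ centralizer (E : Set X)) ^ Nat.card E *
        Nat.card ↥(H ⊓ centralizer (U : Set X)) := by
  induction n using Nat.strong_induction_on with
  | _ n ih => ?_
  intro X _ _ U E H hn hU hE hUE hd h
  classical
  have hUH : U ≤ normalizer (H : Set X) := le_sup_left.trans h.normH
  have hEH : E ≤ normalizer (H : Set X) := le_sup_right.trans h.normH
  by_cases hH : H = ⊥
  · subst hH
    simp
  by_cases hred : ∃ N : Subgroup X, N ≤ H ∧ N ≠ ⊥ ∧ N ≠ H ∧ H ≤ normalizer (N : Set X) ∧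
      U ⊔ E ≤ normalizer (N : Set X)
  · obtain ⟨N, hNH, hN0, hNne, hHN, hUEN⟩ := hred
    have hUN : U ≤ normalizer (N : Set X) := le_sup_left.trans hUEN
    have hEN : E ≤ normalizer (N : Set X) := le_sup_right.trans hUEN
    have hlt : Nat.card N < Nat.card H := lt_of_le_of_ne
      (Subgroup.card_le_of_le hNH) (fun e => hNne (Subgroup.eq_of_le_of_card_ge hNH e.ge))
    -- the formula for `N`
    have hsN : FWHyp U E N := ⟨h.normE, h.fpf, hUEN, Coprime.isSolvable_of_le hNH h.solvable,
      h.coprime.coprime_dvd_left (card_dvd_of_le hNH)⟩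
    have eN := ih (Nat.card U + Nat.card N) (by omega) U E N le_rfl hU hE hUE
      (le_bot_iff.1 ((inf_le_inf_right _ hNH).trans hd.le)) hsN
    -- the quotient
    let L := normalizer (N : Set X)
    haveI : (N.subgroupOf L).Normal := Subgroup.normal_in_normalizer
    let π := QuotientGroup.mk' (N.subgroupOf L)
    let bar : Subgroup X → Subgroup (L ⧸ N.subgroupOf L) := fun K => (K.subgroupOf L).map π
    have hπ0 : ∀ m : L, π m = 1 ↔ (m : X) ∈ N := fun m =>
      (QuotientGroup.eq_one_iff m).trans mem_subgroupOf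
    have hidx : ∀ K : Subgroup X, K ≤ L → Nat.card (bar K) = N.relIndex K := by
      intro K hK
      have h1 := Subgroup.relIndex_map_map π (⊥ : Subgroup L) (K.subgroupOf L)
      rw [Subgroup.map_bot, relIndex_bot_left, bot_sup_eq, QuotientGroup.ker_mk',
        relIndex_sup_right, relIndex_subgroupOf hK] at h1
      exact h1
    have hsmall : ∀ K : Subgroup X, K ≤ U ⊔ E → Nat.card (bar K) = Nat.card K := by
      intro K hK
      rw [hidx K (hK.trans hUEN), ← inf_relIndex_right,
        show N ⊓ K = ⊥ from le_bot_iff.1 ((inf_le_inf hNH hK).trans hd.le), relIndex_bot_left]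
    have hbar_sup : bar (U ⊔ E) = bar U ⊔ bar E := by
      show (subgroupOf _ L).map π = _
      rw [subgroupOf_sup hUN hEN, Subgroup.map_sup]
    have hinj : ∀ m : L, (m : X) ∈ U ⊔ E → π m = 1 → (m : X) = 1 := fun m hm e =>
      mem_bot.1 (hd.le ⟨hNH ((hπ0 m).1 e), hm⟩)
    have hnorm : ∀ A K : Subgroup X, A ≤ normalizer (K : Set X) →
        bar A ≤ normalizer ((bar K : Subgroup _) : Set (L ⧸ N.subgroupOf L)) := by
      intro A K hAK
      rw [le_normalizer_iff]
      rintro _ ⟨a, ha, rfl⟩ _ ⟨k, hk, rfl⟩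
      have ha' : (a : X) ∈ A := ha
      have hk' : (k : X) ∈ K := hk
      exact ⟨a * k * a⁻¹, (Coprime.conj_mem (hAK ha') hk' : (a : X) * k * (a : X)⁻¹ ∈ K), by simp [π]⟩
    have hfixbar : ∀ A : Subgroup X, A ≤ U ⊔ E →
        Nat.card ↥(bar H ⊓ centralizer ((bar A : Subgroup _) : Set (L ⧸ N.subgroupOf L))) =
          N.relIndex (H ⊓ centralizer (A : Set X)) := by
      intro A hA
      rw [← hidx _ (inf_le_left.trans hHN)]
      congr 1
      refine congrArg (fun K : Subgroup (L ⧸ N.subgroupOf L) => (↥K : Type u)) (le_antisymm ?_ ?_)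
      · rintro _ ⟨⟨m, (hm : (m : X) ∈ H), rfl⟩, hc⟩
        obtain ⟨c, hc1, hc2⟩ := Coprime.exists_centralizer_mem_of_comm_mem (hA.trans h.normH)
          (h.coprime.coprime_dvd_right (card_dvd_of_le hA)).symm (Or.inr h.solvable) hNH hHN
          (hA.trans hUEN) hm fun a ha => by
            have h1 := mem_centralizer_iff.1 hc (π ⟨a, hA.trans hUEN ha⟩) ⟨_, ha, rfl⟩
            have e : π (⟨a, hA.trans hUEN ha⟩ * m * ⟨a, hA.trans hUEN ha⟩⁻¹ * m⁻¹) = 1 := by
              rw [map_mul, map_mul, map_mul, map_inv, map_inv, h1, mul_inv_cancel_right, mul_inv_cancel]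
            exact (hπ0 _).1 e
        refine ⟨⟨c, hHN hc1.1⟩, hc1, ?_⟩
        have e : π (m⁻¹ * ⟨c, hHN hc1.1⟩) = 1 := (hπ0 _).2 hc2
        rw [map_mul, map_inv, inv_mul_eq_one] at e
        exact e.symm
      · rintro _ ⟨m, (hm : (m : X) ∈ H ⊓ centralizer (A : Set X)), rfl⟩
        refine ⟨⟨m, hm.1, rfl⟩, mem_centralizer_iff.2 ?_⟩
        rintro _ ⟨a, (ha : (a : X) ∈ A), rfl⟩
        rw [← map_mul, ← map_mul]
        exact congrArg π (Subtype.ext (mem_centralizer_iff.1 hm.2 _ ha))
    have hbarH : Nat.card (bar H) = N.relIndex H := hidx H hHN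
    have hprod : ∀ K : Subgroup X, K ≤ H →
        Nat.card K = Nat.card ↥(N ⊓ K) * N.relIndex K := by
      intro K _
      have e := Subgroup.relIndex_mul_relIndex (⊥ : Subgroup X) (N ⊓ K) K bot_le inf_le_right
      rw [relIndex_bot_left, relIndex_bot_left, inf_relIndex_right] at e
      exact e.symm
    have hlt' : Nat.card (bar H) < Nat.card H := by
      rw [hbarH, hprod H le_rfl, inf_eq_left.2 hNH]
      haveI : Nontrivial N := (Subgroup.nontrivial_iff_ne_bot N).2 hN0
      exact lt_mul_of_one_lt_left (Nat.pos_of_ne_zero Subgroup.index_ne_zero_of_finite)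
        Finite.one_lt_card
    have hbarU : Nat.card (bar U) = Nat.card U := hsmall U le_sup_left
    have hbarE : Nat.card (bar E) = Nat.card E := hsmall E le_sup_right
    have hhyp : FWHyp (bar U) (bar E) (bar H) := by
      refine ⟨hnorm E U h.normE, ?_, hbar_sup ▸ hnorm _ _ h.normH, ?_, ?_⟩
      · rintro _ ⟨e, (he : (e : X) ∈ E), rfl⟩ he1 _ ⟨a, (ha : (a : X) ∈ U), rfl⟩ hcom
        have hcom' : π (e * a * e⁻¹ * a⁻¹) = 1 := by
          rw [map_mul, map_mul, map_mul, map_inv, map_inv, hcom, mul_inv_cancel_right, mul_inv_cancel]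
        have hm : ((e * a * e⁻¹ * a⁻¹ : L) : X) ∈ U ⊔ E := by
          simpa using mul_mem (mul_mem (mul_mem (mem_sup_right (S := U) he) (mem_sup_left ha))
            (inv_mem (mem_sup_right he))) (inv_mem (mem_sup_left (T := E) ha))
        have h1 := hinj _ hm hcom'
        simp only [Subgroup.coe_mul, Subgroup.coe_inv, mul_inv_eq_one, mul_inv_eq_iff_eq_mul,
          one_mul] at h1
        have h2 := h.fpf _ he (fun h0 => he1 (by
          rw [hπ0]
          exact h0 ▸ one_mem N)) _ ha h1
        rw [hπ0]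
        exact h2 ▸ one_mem N
      · haveI := h.solvable
        haveI : Group.IsSolvable (H.subgroupOf L) :=
          Group.isSolvable_of_isSolvable_injective
            (f := (Subgroup.subgroupOfEquivOfLe hHN).toMonoidHom) (MulEquiv.injective _)
        exact Coprime.isSolvable_map π inferInstance
      · rw [← hbar_sup, hsmall _ le_rfl, hbarH]
        exact h.coprime.coprime_dvd_left ⟨_, ((hprod H le_rfl).trans (mul_comm _ _))⟩
    have eQ := ih (Nat.card U + Nat.card (bar H)) (by omega) (bar U) (bar E) (bar H)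
      (by rw [hbarU]) (fun e => hU (Subgroup.eq_bot_of_card_eq U (by rw [← hbarU, e, card_bot])))
      (fun e => hE (Subgroup.eq_bot_of_card_eq E (by rw [← hbarE, e, card_bot]))) ?_ ?_ hhyp
    · rw [← hbar_sup, hfixbar _ le_rfl, hfixbar _ le_sup_right, hfixbar _ le_sup_left, hbarE,
        hbarH] at eQ
      have key : ∀ A : Subgroup X, Nat.card ↥(H ⊓ centralizer (A : Set X)) =
          Nat.card ↥(N ⊓ centralizer (A : Set X)) * N.relIndex (H ⊓ centralizer (A : Set X)) := by
        intro A
        rw [hprod _ inf_le_left, ← inf_assoc, inf_eq_left.2 hNH]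
      rw [key (U ⊔ E), key E, key U, mul_pow, mul_pow, hprod H le_rfl, inf_eq_left.2 hNH,
        mul_mul_mul_comm, eN, eQ]
      ring
    · rw [eq_bot_iff]
      rintro _ ⟨⟨a, (ha : (a : X) ∈ U), rfl⟩, ⟨b, (hb : (b : X) ∈ E), e⟩⟩
      have h1 : π (b⁻¹ * a) = 1 := by rw [map_mul, map_inv, e, inv_mul_cancel]
      have h2 := hinj _ (by simpa using mul_mem (inv_mem (mem_sup_right (S := U) hb)) (mem_sup_left ha)) h1
      simp only [Subgroup.coe_mul, Subgroup.coe_inv, inv_mul_eq_one] at h2
      have h3 : (a : X) ∈ U ⊓ E := ⟨ha, h2 ▸ hb⟩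
      rw [hUE, mem_bot] at h3
      rw [mem_bot, hπ0, h3]
      exact one_mem N
    · refine Coprime.inf_eq_bot ?_
      exact hhyp.coprime
  -- irreducible case
  have hirr : ∀ N : Subgroup X, N ≤ H → H ≤ normalizer (N : Set X) →
      U ⊔ E ≤ normalizer (N : Set X) → N = ⊥ ∨ N = H := by
    intro N h1 h2 h3
    by_contra h4
    push Not at h4
    exact hred ⟨N, h1, h4.1, h4.2, h2, h3⟩
  haveI := h.solvable
  haveI : Nontrivial H := (Subgroup.nontrivial_iff_ne_bot H).2 hH
  have hder : ⁅H, H⁆ = ⊥ := by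
    refine (hirr ⁅H, H⁆ (commutator_le_self H) ?_ ?_).resolve_right fun e => ?_
    · exact le_normalizer_iff_commutator_le_right.2 (commutator_mono le_rfl (commutator_le_self H))
    · rw [le_normalizer_iff]
      intro a ha y hy
      have : ⁅H, H⁆.map (MulAut.conj a).toMonoidHom = ⁅H, H⁆ := by
        rw [Subgroup.map_commutator, Coprime.map_conj_eq (h.normH ha)]
      exact this ▸ ⟨y, hy, rfl⟩
    · have h1 := Group.IsSolvable.commutator_lt_top_of_nontrivial H
      refine h1.ne (Subgroup.map_injective H.subtype_injective ?_)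
      rw [Subgroup.map_subtype_commutator, e, ← MonoidHom.range_eq_map, Subgroup.range_subtype]
  have hHcomm : ∀ a ∈ H, ∀ b ∈ H, a * b = b * a := fun a ha b hb =>
    mem_centralizer_iff.1 ((Subgroup.commutator_eq_bot_iff_le_centralizer.1 hder) hb) a ha
  haveI : IsMulCommutative H :=
    IsMulCommutative.of_comm fun a b => Subtype.ext (hHcomm a a.2 b b.2)
  have hHnorm : ∀ N : Subgroup X, N ≤ H → H ≤ normalizer (N : Set X) := fun N hN => by
    rw [le_normalizer_iff]
    intro a ha y hy
    rwa [hHcomm a ha y (hN hy), mul_inv_cancel_right]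
  obtain ⟨p, hp, hdvd⟩ := Nat.exists_prime_and_dvd (Nat.ne_of_gt (Finite.one_lt_card (α := H)))
  haveI := Fact.mk hp
  obtain ⟨z, hz⟩ := exists_prime_orderOf_dvd_card' (G := H) p hdvd
  let Tp : Subgroup X :=
    { carrier := {y | y ∈ H ∧ y ^ p = 1}
      one_mem' := ⟨one_mem _, one_pow _⟩
      mul_mem' := fun {a b} ha hb => ⟨mul_mem ha.1 hb.1, by
        rw [Commute.mul_pow (hHcomm a ha.1 b hb.1), ha.2, hb.2, one_mul]⟩
      inv_mem' := fun {a} ha => ⟨inv_mem ha.1, by rw [inv_pow, ha.2, inv_one]⟩ }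
  have hTp : Tp = H := (hirr Tp (fun y hy => hy.1) (hHnorm _ fun y hy => hy.1) (by
    rw [le_normalizer_iff]
    intro a ha y hy
    exact ⟨Coprime.conj_mem (h.normH ha) hy.1, by rw [conj_pow, hy.2, mul_one, mul_inv_cancel]⟩)).resolve_left
    fun e => by
      have : (z : X) ∈ Tp := ⟨z.2, by rw [← Subgroup.coe_pow, ← hz, pow_orderOf_eq_one, Subgroup.coe_one]⟩
      rw [e, mem_bot, OneMemClass.coe_eq_one] at this
      rw [this, orderOf_one] at hz
      exact hp.one_lt.ne hz
  have hexp : ∀ y ∈ H, y ^ p = 1 := fun y hy => (hTp.ge hy).2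
  have hinvC : ∀ K : Subgroup X, U ⊔ E ≤ normalizer (K : Set X) →
      H ⊓ centralizer (K : Set X) = ⊥ ∨ H ⊓ centralizer (K : Set X) = H := fun K hK => by
    refine hirr _ inf_le_left (hHnorm _ inf_le_left) ?_
    rw [le_normalizer_iff]
    intro a ha y hy
    refine ⟨Coprime.conj_mem (h.normH ha) hy.1, mem_centralizer_iff.2 fun c hc => ?_⟩
    have h1 := mem_centralizer_iff.1 hy.2 _ (Coprime.conj_mem' (hK ha) hc)
    calc c * (a * y * a⁻¹) = a * ((a⁻¹ * c * a) * y) * a⁻¹ := by group
      _ = _ := by rw [h1]; group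
  rcases hinvC U (sup_le le_normalizer h.normE) with hC | hC
  swap
  · -- `U` acts trivially
    have e : H ⊓ centralizer ((U ⊔ E : Subgroup X) : Set X) = H ⊓ centralizer (E : Set X) := by
      refine le_antisymm (inf_le_inf_left _ (centralizer_le (SetLike.coe_subset_coe.2 le_sup_right))) (le_inf inf_le_left ?_)
      intro y hy
      have h1 : U ⊔ E ≤ centralizer ({y} : Set X) := sup_le
        (fun a ha => mem_centralizer_singleton_iff.2
          (mem_centralizer_iff.1 (inf_eq_left.1 hC hy.1) a ha))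
        (fun a ha => mem_centralizer_singleton_iff.2 (mem_centralizer_iff.1 hy.2 a ha))
      exact mem_centralizer_iff.2 fun a ha => mem_centralizer_singleton_iff.1 (h1 ha)
    rw [e, hC]
  have hC' : H ⊓ centralizer ((U ⊔ E : Subgroup X) : Set X) = ⊥ :=
    le_bot_iff.1 (hC ▸ inf_le_inf_left _ (centralizer_le (SetLike.coe_subset_coe.2 le_sup_left)))
  rw [hC', hC, Subgroup.card_bot, one_pow, one_mul, mul_one]
  haveI : Nontrivial E := (Subgroup.nontrivial_iff_ne_bot E).2 hE
  obtain ⟨r, hr, hrdvd⟩ := Nat.exists_prime_and_dvd (Nat.ne_of_gt (Finite.one_lt_card (α := E)))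
  haveI := Fact.mk hr
  obtain ⟨⟨x, hx⟩, hxo⟩ := exists_prime_orderOf_dvd_card' (G := E) r hrdvd
  haveI hUnil : Group.IsNilpotent U := by
    haveI : (U.subgroupOf (normalizer (U : Set X))).Normal := Subgroup.normal_in_normalizer
    have hx' : x ∈ normalizer (U : Set X) := h.normE hx
    have := Frobenius.isNilpotent_of_centralizer (G := normalizer (U : Set X))
      (K := U.subgroupOf (normalizer (U : Set X))) hr (h := ⟨x, hx'⟩) ?_ ?_
    · exact (Group.isNilpotent_congr (Subgroup.subgroupOfEquivOfLe le_normalizer)).1 this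
    · apply Subtype.ext
      have h1 := congrArg Subtype.val (pow_orderOf_eq_one (⟨x, hx⟩ : E))
      rw [hxo] at h1
      simpa using h1
    · intro k hk hcom
      refine Subtype.ext (h.fpf x hx ?_ k hk (congrArg Subtype.val hcom))
      intro e
      subst e
      rw [show (⟨1, hx⟩ : E) = 1 from rfl, orderOf_one] at hxo
      exact hr.one_lt.ne hxo
  have hU'norm : U ⊔ E ≤ normalizer ((⁅U, U⁆ : Subgroup X) : Set X) := by
    rw [le_normalizer_iff]
    intro a ha y hy
    have : ⁅U, U⁆.map (MulAut.conj a).toMonoidHom = ⁅U, U⁆ := by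
      rw [Subgroup.map_commutator, Coprime.map_conj_eq ((sup_le le_normalizer h.normE : U ⊔ E ≤ _) ha)]
    exact this ▸ ⟨y, hy, rfl⟩
  rcases hinvC ⁅U, U⁆ hU'norm with hC2 | hC2
  · haveI : Nontrivial U := (Subgroup.nontrivial_iff_ne_bot U).2 hU
    have hle : ⁅U, U⁆ ≤ U := commutator_le_self U
    have hlt : Nat.card ↥⁅U, U⁆ < Nat.card U := by
      refine lt_of_le_of_ne (Subgroup.card_le_of_le hle) fun e => ?_
      have h1 := Group.IsSolvable.commutator_lt_top_of_nontrivial U
      refine h1.ne (Subgroup.map_injective U.subtype_injective ?_)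
      rw [Subgroup.map_subtype_commutator, Subgroup.eq_of_le_of_card_ge hle e.ge,
        ← MonoidHom.range_eq_map, Subgroup.range_subtype]
    have hU'ne : ⁅U, U⁆ ≠ ⊥ := by
      intro e
      rw [e, Subgroup.coe_bot, centralizer_eq_top_iff_subset.2 (by
        intro y hy
        rw [Set.mem_singleton_iff.1 hy]
        exact one_mem _), inf_top_eq] at hC2
      exact hH hC2
    have e := ih (Nat.card ↥⁅U, U⁆ + Nat.card H) (by omega) ⁅U, U⁆ E H le_rfl hU'ne hE
      (le_bot_iff.1 ((inf_le_inf_right _ hle).trans hUE.le))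
      (le_bot_iff.1 ((inf_le_inf_left _ (sup_le_sup_right hle E)).trans hd.le))
      ⟨le_sup_right.trans hU'norm, fun a ha ha1 b hb => h.fpf a ha ha1 b (hle hb),
        (sup_le_sup_right hle E).trans h.normH, h.solvable,
        h.coprime.coprime_dvd_right (card_dvd_of_le (sup_le_sup_right hle E))⟩
    have hC3 : H ⊓ centralizer ((⁅U, U⁆ ⊔ E : Subgroup X) : Set X) = ⊥ :=
      le_bot_iff.1 (hC2 ▸ inf_le_inf_left _ (centralizer_le (SetLike.coe_subset_coe.2 le_sup_left)))
    rw [hC3, hC2, Subgroup.card_bot, one_pow, one_mul, mul_one] at e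
    exact e
  · refine fw_base h hp hexp hH ?_ hC ?_
    · intro N hN hNU hNE
      exact hirr N hN (hHnorm N hN) (sup_le hNU hNE)
    · intro a ha b hb
      have h1 : H ≤ centralizer ((⁅U, U⁆ : Subgroup X) : Set X) := inf_eq_left.1 hC2
      exact (le_centralizer_iff.1 h1)
        (by simpa [commutatorElement_def] using commutator_mem_commutator ha hb)

end Cfsg.Agent.H1
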