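import Cfsg.Prelude.Def_CharExt
import Cfsg.Agent.CharBasic.Equivalence
import Mathlib.LinearAlgebra.Determinant
import Mathlib.LinearAlgebra.Matrix.ToLin

/-!
# The determinantal character: independence of the representation, twists, field automorphisms
-/

open Module
open scoped ComplexConjugate

namespace Cfsg.Agent.H1

open Cfsg.Agent.CharBasic

variable {G : Type*} [Group G] [Finite G]

theorem detChar_character {n : ℕ} (ρ : Representation ℂ G (Fin n → ℂ)) :
    Cfsg.detChar ρ.character = fun g => LinearMap.det (ρ g) := by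
  have h : Cfsg.IsCharacter G ρ.character := ⟨n, ρ, rfl⟩
  have hchoose := Classical.choose_spec (Classical.choose_spec h)
  obtain ⟨φ⟩ := nonempty_equiv_of_character_eq ρ
    (Classical.choose (Classical.choose_spec h)) hchoose.symm
  funext g
  rw [Cfsg.detChar, dif_pos h, ← φ.conj_apply_self g]
  exact LinearMap.det_conj (ρ g) φ.toLinearEquiv

theorem detChar_one {χ : G → ℂ} (h : Cfsg.IsCharacter G χ) : Cfsg.detChar χ 1 = 1 := by
  obtain ⟨n, ρ, rfl⟩ := h
  simp [detChar_character]

theorem detChar_mul {χ : G → ℂ} (h : Cfsg.IsCharacter G χ) (a b : G) :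
    Cfsg.detChar χ (a * b) = Cfsg.detChar χ a * Cfsg.detChar χ b := by
  obtain ⟨n, ρ, rfl⟩ := h
  simp [detChar_character]

theorem detChar_pow {χ : G → ℂ} (h : Cfsg.IsCharacter G χ) (a : G) (k : ℕ) :
    Cfsg.detChar χ (a ^ k) = Cfsg.detChar χ a ^ k := by
  induction k with
  | zero => simp [detChar_one h]
  | succ k ih => rw [pow_succ, pow_succ, detChar_mul h, ih]

theorem detChar_pow_orderOf {χ : G → ℂ} (h : Cfsg.IsCharacter G χ) (a : G) :
    Cfsg.detChar χ a ^ orderOf a = 1 := by
  rw [← detChar_pow h, pow_orderOf_eq_one, detChar_one h]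

theorem detChar_pow_detOrder (χ : G → ℂ) (a : G) :
    Cfsg.detChar χ a ^ Cfsg.detOrder χ = 1 := by
  have h := pow_orderOf_eq_one (Cfsg.detChar χ)
  exact congrFun h a

/-- Twist by a linear character. -/
theorem exists_twist {χ : G → ℂ} (h : Cfsg.IsCharacter G χ) (l : G →* ℂˣ) {d : ℕ}
    (hd : χ 1 = d) :
    Cfsg.IsCharacter G (fun g => (l g : ℂ) * χ g) ∧
      ∀ g, Cfsg.detChar (fun g => (l g : ℂ) * χ g) g = (l g : ℂ) ^ d * Cfsg.detChar χ g := by
  obtain ⟨n, ρ, rfl⟩ := h
  rw [Representation.char_one, Module.finrank_fin_fun, Nat.cast_inj] at hd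
  subst hd
  let τ : Representation ℂ G (Fin n → ℂ) :=
    { toFun := fun g => (l g : ℂ) • ρ g
      map_one' := by simp
      map_mul' := fun a b => by
        simp [map_mul, smul_smul, mul_comm (l a : ℂ), Units.val_mul] }
  have hτ : τ.character = fun g => (l g : ℂ) * ρ.character g := funext fun g => by
    simp [Representation.character, τ]
  refine ⟨hτ ▸ ⟨n, τ, rfl⟩, fun g => ?_⟩
  rw [← hτ, detChar_character, detChar_character]
  show LinearMap.det ((l g : ℂ) • ρ g) = _
  rw [LinearMap.det_smul, Module.finrank_fin_fun]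

/-- Field automorphisms commute with the determinantal character. -/
theorem detChar_aut (σ : ℂ ≃+* ℂ) {χ : G → ℂ} (h : Cfsg.IsCharacter G χ) :
    Cfsg.detChar (fun g => σ (χ g)) = fun g => σ (Cfsg.detChar χ g) := by
  obtain ⟨n, ρ, rfl⟩ := h
  let τ : Representation ℂ G (Fin n → ℂ) :=
    { toFun := fun g => Matrix.toLin' ((LinearMap.toMatrix' (ρ g)).map σ)
      map_one' := by simp [Module.End.one_eq_id]
      map_mul' := fun a b => by
        rw [map_mul, Module.End.mul_eq_comp, LinearMap.toMatrix'_comp,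
          show (LinearMap.toMatrix' (ρ a) * LinearMap.toMatrix' (ρ b)).map σ =
            (LinearMap.toMatrix' (ρ a)).map σ * (LinearMap.toMatrix' (ρ b)).map σ from
            Matrix.map_mul (f := σ.toRingHom), Matrix.toLin'_mul]
        rfl }
  have hτ : τ.character = fun g => σ (ρ.character g) := funext fun g => by
    show LinearMap.trace ℂ _ (Matrix.toLin' ((LinearMap.toMatrix' (ρ g)).map σ)) = σ (ρ.character g)
    rw [Matrix.trace_toLin'_eq, Representation.character, ← Matrix.toLin'_toMatrix' (ρ g),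
      Matrix.trace_toLin'_eq, Matrix.toLin'_toMatrix']
    exact (AddMonoidHom.map_trace σ.toRingHom.toAddMonoidHom _).symm
  funext g
  rw [← hτ, detChar_character, detChar_character]
  show LinearMap.det (Matrix.toLin' ((LinearMap.toMatrix' (ρ g)).map σ)) = σ (LinearMap.det (ρ g))
  rw [LinearMap.det_toLin', ← LinearMap.det_toMatrix' (ρ g)]
  exact (RingHom.map_det σ.toRingHom _).symm

theorem detOrder_aut (σ : ℂ ≃+* ℂ) {χ : G → ℂ} (h : Cfsg.IsCharacter G χ) :
    Cfsg.detOrder (fun g => σ (χ g)) = Cfsg.detOrder χ := by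
  rw [Cfsg.detOrder, detChar_aut σ h, Cfsg.detOrder]
  exact orderOf_injective (σ.toRingHom.toMonoidHom.compLeft G)
    (fun a b hab => funext fun g => σ.injective (congrFun hab g)) (Cfsg.detChar χ)

end Cfsg.Agent.H1
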