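import Cfsg.Agent.H1.CyclicCoset
import Cfsg.Agent.H1.DetChar
import Cfsg.Agent.CharInduce.Twist
import Cfsg.Agent.CharBasic.Kernel
import Cfsg.Agent.CharBasic.Virtual
import Cfsg.Agent.H43.Galois
import Cfsg.Agent.H35.Extend

/-!
# Canonical extensions for a coprime cyclic operator and the Glauberman correspondence
-/

open scoped ComplexConjugate

namespace Cfsg.Agent.H1

open Cfsg.Agent.CharBasic Finset

universe u

variable {Γ : Type u} [Group Γ] [Fintype Γ] {G C : Subgroup Γ} {s : Γ}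

/-- A linear character twist of an irreducible character is irreducible. -/
theorem isIrr_twist {φ : Γ → ℂ} (hφ : Cfsg.IsIrrCharacter Γ φ) (l : Γ →* ℂˣ) :
    Cfsg.IsIrrCharacter Γ fun x => (l x : ℂ) * φ x := by
  obtain ⟨n, -, hn⟩ := IsIrr.exists_degree hφ
  refine CharBasic.isIrr_of_norm_one (exists_twist (IsIrr.isCharacter hφ) l hn).1 ?_
  rw [← classInner_irr_self hφ, classInner_def, classInner_def]
  congr 1
  refine Finset.sum_congr rfl fun x _ => ?_
  have : (l x : ℂ) * conj (l x : ℂ) = 1 := by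
    rw [Complex.mul_conj', CharInduce.norm_hom]
    simp
  rw [map_mul]
  linear_combination (φ x * conj (φ x)) * this

variable [Fintype G] [Fintype C] (D : CycData G C s)

include D

theorem pow_mem (a : Γ) : a ^ orderOf s ∈ G := by
  haveI := D.normal
  have htop : Subgroup.zpowers (QuotientGroup.mk' G s) = ⊤ := by
    rw [← MonoidHom.map_zpowers, eq_top_iff, ← Subgroup.map_top_of_surjective _
      (QuotientGroup.mk'_surjective G), ← D.gen, Subgroup.map_sup,
      (Subgroup.map_eq_bot_iff _).2 (QuotientGroup.ker_mk' G).ge, bot_sup_eq]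
  obtain ⟨i, hi⟩ := Subgroup.mem_zpowers_iff.1 (htop ▸ Subgroup.mem_top (QuotientGroup.mk' G a))
  refine (QuotientGroup.eq_one_iff _).1 (show QuotientGroup.mk' G (a ^ orderOf s) = 1 from ?_)
  rw [map_pow, ← hi, ← zpow_natCast, ← zpow_mul, mul_comm, zpow_mul, zpow_natCast, ← map_pow,
    pow_orderOf_eq_one, map_one, one_zpow]

theorem mk_zpowers_top :
    haveI := D.normal
    Subgroup.zpowers (QuotientGroup.mk' G s) = ⊤ := by
  haveI := D.normal
  rw [← MonoidHom.map_zpowers, eq_top_iff, ← Subgroup.map_top_of_surjective _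
    (QuotientGroup.mk'_surjective G), ← D.gen, Subgroup.map_sup,
    (Subgroup.map_eq_bot_iff _).2 (QuotientGroup.ker_mk' G).ge, bot_sup_eq]

/-- Two irreducible characters are twists of each other or orthogonal on every coset of `G`;
equal characters are equidistributed over the cosets. -/
theorem coset_products {φ φ' : Γ → ℂ} (hφ : Cfsg.IsIrrCharacter Γ φ)
    (hφ' : Cfsg.IsIrrCharacter Γ φ') :
    ((∃ l : Γ →* ℂˣ, (∀ g : G, l (g : Γ) = 1) ∧ ∀ x, φ x = (l x : ℂ) * φ' x) ∨
      ∀ a : Γ, ∑ g : G, φ ((g : Γ) * a) * conj (φ' ((g : Γ) * a)) = 0) ∧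
    ((∀ l : Γ →* ℂˣ, (∀ g : G, l (g : Γ) = 1) → (∀ x, φ x = (l x : ℂ) * φ' x) → l = 1) →
      φ = φ' → ∀ a : Γ, ∑ g : G, φ ((g : Γ) * a) * conj (φ' ((g : Γ) * a)) = (Nat.card G : ℂ)) := by
  classical
  haveI := D.normal
  haveI : Fintype (Γ ⧸ G) := Fintype.ofFinite _
  let π := QuotientGroup.mk' G
  let F : Γ ⧸ G → ℂ := fun q => ∑ x ∈ univ.filter (fun x => π x = q), φ x * conj (φ' x)
  have hFa : ∀ a : Γ, F (π a) = ∑ g : G, φ ((g : Γ) * a) * conj (φ' ((g : Γ) * a)) := by
    intro a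
    symm
    refine Finset.sum_bij' (fun g _ => (g : Γ) * a) (fun x hx => (⟨x * a⁻¹, ?_⟩ : G)) ?_ ?_ ?_ ?_ ?_
    · exact (QuotientGroup.eq_one_iff _).1 (show π (x * a⁻¹) = 1 by
        rw [map_mul, (mem_filter.1 hx).2, map_inv, mul_inv_cancel])
    · intro g _
      rw [mem_filter]
      refine ⟨mem_univ _, ?_⟩
      rw [map_mul, show π (g : Γ) = 1 from (QuotientGroup.eq_one_iff _).2 g.2, one_mul]
    · intro x _
      exact mem_univ _
    · intro g _
      simp
    · intro x _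
      simp
    · intro g _
      rfl
  have hcomm : ∀ a b : Γ ⧸ G, a * b = b * a := by
    intro a b
    obtain ⟨i, rfl⟩ := Subgroup.mem_zpowers_iff.1 (mk_zpowers_top D ▸ Subgroup.mem_top a)
    obtain ⟨j, rfl⟩ := Subgroup.mem_zpowers_iff.1 (mk_zpowers_top D ▸ Subgroup.mem_top b)
    exact (Commute.zpow_zpow (Commute.refl _) i j).eq
  have hFc : Cfsg.IsClassFunction (Γ ⧸ G) F := fun q r => by
    rw [hcomm r q, mul_inv_cancel_right]
  have hinner : ∀ (lam : Cfsg.IrrCharacter (Γ ⧸ G)) (L : Γ ⧸ G →* ℂˣ),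
      (∀ q, (lam : Γ ⧸ G → ℂ) q = (L q : ℂ)) → Cfsg.classInner F (lam : Γ ⧸ G → ℂ) =
        (Nat.card G : ℂ) * Cfsg.classInner φ (fun x => ((L.comp π) x : ℂ) * φ' x) := by
    intro lam L hL
    have hsum : ∑ q : Γ ⧸ G, F q * conj ((lam : Γ ⧸ G → ℂ) q) =
        ∑ x : Γ, φ x * conj (((L.comp π) x : ℂ) * φ' x) := by
      rw [← Finset.sum_fiberwise univ π fun x => φ x * conj (((L.comp π) x : ℂ) * φ' x)]
      refine Finset.sum_congr rfl fun q _ => ?_
      rw [Finset.sum_mul]
      refine Finset.sum_congr rfl fun x hx => ?_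
      rw [hL, map_mul, MonoidHom.comp_apply, (mem_filter.1 hx).2]
      ring
    rw [classInner_def, classInner_def, hsum, Subgroup.card_eq_card_quotient_mul_card_subgroup G]
    push_cast
    have : (Nat.card G : ℂ) ≠ 0 := by simp
    field_simp
  have hlam : ∀ lam : Cfsg.IrrCharacter (Γ ⧸ G), ∃ L : Γ ⧸ G →* ℂˣ,
      ∀ q, (lam : Γ ⧸ G → ℂ) q = (L q : ℂ) := fun lam =>
    CharInduce.IsChar.exists_hom_of_degree_one (IsIrr.isCharacter lam.2)
      (CharBasic.commutative_iff_forall_linear.1 hcomm lam)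
  constructor
  · by_cases h : ∃ l : Γ →* ℂˣ, (∀ g : G, l (g : Γ) = 1) ∧ ∀ x, φ x = (l x : ℂ) * φ' x
    · exact Or.inl h
    · refine Or.inr fun a => ?_
      have hF0 : F = 0 := eq_zero_of_classInner_eq_zero hFc fun lam => by
        obtain ⟨L, hL⟩ := hlam lam
        rw [hinner lam L hL, classInner_irr_of_ne hφ (isIrr_twist hφ' _) ?_, mul_zero]
        intro he
        refine h ⟨L.comp π, fun g => ?_, congrFun he⟩
        rw [MonoidHom.comp_apply, show π (g : Γ) = 1 from (QuotientGroup.eq_one_iff _).2 g.2,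
          map_one]
      rw [← hFa, hF0, Pi.zero_apply]
  · intro huniq he a
    have hF : F = fun _ => (Nat.card G : ℂ) := by
      refine classFunction_ext hFc (fun _ _ => rfl) fun lam => ?_
      obtain ⟨L, hL⟩ := hlam lam
      rw [hinner lam L hL, show (fun _ : Γ ⧸ G => (Nat.card G : ℂ)) =
        (Nat.card G : ℂ) • (fun _ : Γ ⧸ G => (1 : ℂ)) by funext q; simp,
        classInner_smul_left]
      congr 1
      rw [classInner_irr hφ (isIrr_twist hφ' _), classInner_irr isIrrCharacter_one lam.2]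
      refine if_congr ?_ rfl rfl
      constructor
      · intro h
        funext q
        obtain ⟨x, rfl⟩ := QuotientGroup.mk'_surjective G q
        have hl := huniq (L.comp π) (fun g => by
          rw [MonoidHom.comp_apply, show π (g : Γ) = 1 from (QuotientGroup.eq_one_iff _).2 g.2,
            map_one]) (congrFun h)
        have := DFunLike.congr_fun hl x
        simp only [MonoidHom.comp_apply, MonoidHom.one_apply] at this
        show (1 : ℂ) = (lam : Γ ⧸ G → ℂ) (π x)
        rw [hL, this, Units.val_one]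
      · intro h
        funext x
        rw [he, MonoidHom.comp_apply, ← hL, ← h, one_mul]
    rw [← hFa, hF]

/-- `φ` extends the irreducible character `χ` canonically. -/
structure IsCanon (χ : G → ℂ) (φ : Γ → ℂ) : Prop where
  irr : Cfsg.IsIrrCharacter Γ φ
  irr_res : Cfsg.IsIrrCharacter G χ
  res : ∀ g : G, φ g = χ g
  det : (Cfsg.detOrder φ).Coprime (orderOf s)

variable {χ χ' : G → ℂ} {φ φ' : Γ → ℂ}

omit D in
theorem IsCanon.degree_coprime (h : IsCanon (s := s) χ φ) (hcop : (Nat.card G).Coprime (orderOf s)) :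
    ∃ n : ℕ, φ 1 = n ∧ n.Coprime (orderOf s) := by
  obtain ⟨n, -, hn, hdvd, -⟩ := IsIrr.degree_dvd h.irr_res
  refine ⟨n, ?_, hcop.coprime_dvd_left hdvd⟩
  rw [← hn]
  exact h.res 1

theorem canon_twist_eq_one (h : IsCanon (s := s) χ φ) (h' : IsCanon (s := s) χ φ') (l : Γ →* ℂˣ)
    (hl : ∀ g : G, l (g : Γ) = 1) (heq : ∀ x, φ x = (l x : ℂ) * φ' x) : l = 1 := by
  obtain ⟨n, hn, hcop⟩ := h'.degree_coprime D.coprime
  have hdet : ∀ x, Cfsg.detChar φ x = (l x : ℂ) ^ n * Cfsg.detChar φ' x := by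
    intro x
    rw [show φ = fun x => (l x : ℂ) * φ' x from funext heq]
    exact (exists_twist (IsIrr.isCharacter h'.irr) l hn).2 x
  ext x
  rw [MonoidHom.one_apply, Units.val_one]
  set k := n * (Cfsg.detOrder φ * Cfsg.detOrder φ')
  have h1 : (l x : ℂ) ^ k = 1 := by
    have e := congrArg (fun z => z ^ (Cfsg.detOrder φ * Cfsg.detOrder φ')) (hdet x)
    simp only [mul_pow, ← pow_mul] at e
    rw [pow_mul, detChar_pow_detOrder, one_pow, mul_comm (Cfsg.detOrder φ) (Cfsg.detOrder φ'),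
      pow_mul (Cfsg.detChar φ' x), detChar_pow_detOrder, one_pow, mul_one,
      mul_comm (Cfsg.detOrder φ') (Cfsg.detOrder φ)] at e
    exact e.symm
  have h2 : (l x : ℂ) ^ orderOf s = 1 := by
    rw [← Units.val_pow_eq_pow_val, ← map_pow,
      show l (x ^ orderOf s) = 1 from hl ⟨_, pow_mem D x⟩, Units.val_one]
  have hk : k.Coprime (orderOf s) := Nat.Coprime.mul_left hcop (Nat.Coprime.mul_left h.det h'.det)
  have h3 : (l x : ℂ) ^ Nat.gcd k (orderOf s) = 1 := pow_gcd_eq_one.2 ⟨h1, h2⟩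
  rwa [hk.gcd_eq_one, pow_one] at h3

theorem canon_norm (h : IsCanon (s := s) χ φ) (a : Γ) :
    ∑ g : G, φ ((g : Γ) * a) * conj (φ ((g : Γ) * a)) = (Nat.card G : ℂ) :=
  (coset_products D h.irr h.irr).2 (fun l hl he => canon_twist_eq_one D h h l hl he) rfl a

theorem canon_orth (h : IsCanon (s := s) χ φ) (h' : IsCanon (s := s) χ' φ') (hne : χ ≠ χ') (a : Γ) :
    ∑ g : G, φ ((g : Γ) * a) * conj (φ' ((g : Γ) * a)) = 0 := by
  rcases (coset_products D h.irr h'.irr).1 with ⟨l, hl, he⟩ | h0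
  · refine absurd (funext fun g => ?_) hne
    rw [← h.res, ← h'.res, he, hl, Units.val_one, one_mul]
  · exact h0 a

theorem canon_unique (h : IsCanon (s := s) χ φ) (h' : IsCanon (s := s) χ φ') : φ = φ' := by
  rcases (coset_products D h.irr h'.irr).1 with ⟨l, hl, he⟩ | h0
  · rw [canon_twist_eq_one D h h' l hl he] at he
    exact funext fun x => by simpa using he x
  · have h1 := h0 1
    simp only [mul_one, h.res, h'.res] at h1
    have h2 := classInner_irr_self h.irr_res
    rw [classInner_def, h1, mul_zero] at h2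
    exact absurd h2 zero_ne_one

/-- The canonical extension is fixed by automorphisms fixing the `|G|`-th roots of unity. -/
theorem canon_aut (h : IsCanon (s := s) χ φ) (σ : ℂ ≃+* ℂ)
    (hσ : ∀ z : ℂ, z ^ Nat.card G = 1 → σ z = z) (x : Γ) : σ (φ x) = φ x := by
  have h' : IsCanon (s := s) χ (fun x => σ (φ x)) := by
    refine ⟨H43.aut_irr σ h.irr, h.irr_res, fun g => ?_, ?_⟩
    · show σ (φ g) = _
      rw [h.res]
      refine H43.aut_eq_on_value (IsChar.isGeneralized (IsIrr.isCharacter h.irr_res)) g σ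
        (RingEquiv.refl ℂ) fun z hz => hσ z ?_
      obtain ⟨t, ht⟩ := orderOf_dvd_natCard g
      rw [ht, pow_mul, hz, one_pow]
    · rw [detOrder_aut σ (IsIrr.isCharacter h.irr)]
      exact h.det
  exact (congrFun (canon_unique D h h') x).symm

/-- Every invariant irreducible character has a canonical extension. -/
theorem exists_canon (hχ : Cfsg.IsIrrCharacter G χ)
    (hinv : ∀ (x : Γ) (g g' : G), (g' : Γ) = x * g * x⁻¹ → χ g' = χ g) :
    ∃ φ, IsCanon (s := s) χ φ := by
  haveI := D.normal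
  obtain ⟨n₀, ρ, hρ, rfl⟩ := hχ
  have hcyc : IsCyclic (Γ ⧸ G) := ⟨⟨QuotientGroup.mk' G s, fun q =>
    Subgroup.mem_zpowers_iff.1 ((Subgroup.eq_top_iff' _).1 (mk_zpowers_top D) q)⟩⟩
  obtain ⟨φ₀, hφ₀, hres₀⟩ := H35.Extend.exists_extension_cyclic ρ
    (fun x g => hinv x g _ rfl) hcyc
  have hχ : Cfsg.IsIrrCharacter G ρ.character := ⟨n₀, ρ, hρ, rfl⟩
  obtain ⟨n, -, hn, hdvd, -⟩ := IsIrr.degree_dvd hχ
  have hn0 : φ₀ 1 = n := by
    rw [← hn]
    exact hres₀ 1
  have hc0 := IsIrr.isCharacter hφ₀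
  -- the determinant as a homomorphism to the units
  let δ : Γ →* ℂˣ := MonoidHom.toHomUnits
    { toFun := Cfsg.detChar φ₀, map_one' := detChar_one hc0, map_mul' := detChar_mul hc0 }
  obtain ⟨e, he1, he2⟩ := D.exists_exponent
  obtain ⟨a, ha⟩ : ∃ a : ℕ, n * a ≡ 1 [MOD orderOf s] := by
    have hco : n.Coprime (orderOf s) := D.coprime.coprime_dvd_left hdvd
    rcases Nat.eq_or_lt_of_le (orderOf_pos s) with h1 | h1
    · exact ⟨0, by rw [← h1]; exact Nat.modEq_one⟩
    · obtain ⟨a, -, ha⟩ := Nat.exists_mul_mod_eq_one_of_coprime hco h1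
      exact ⟨a, by rw [Nat.ModEq, ha, Nat.one_mod_eq_one.2 h1.ne']⟩
  let l : Γ →* ℂˣ := ((δ ^ e) ^ a)⁻¹
  have hl : ∀ g : G, l (g : Γ) = 1 := by
    intro g
    obtain ⟨t, ht⟩ := he1
    have : δ (g : Γ) ^ e = 1 := by
      rw [ht, pow_mul, ← map_pow,
        congrArg Subtype.val (pow_card_eq_one' (x := g)) |> fun h => show (g : Γ) ^ Nat.card G = 1 from h,
        map_one, one_pow]
    simp [l, this]
  refine ⟨fun x => (l x : ℂ) * φ₀ x, isIrr_twist hφ₀ l, hχ, fun g => ?_, ?_⟩
  · rw [hl, Units.val_one, one_mul, hres₀]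
  · have hd : ∀ x, Cfsg.detChar (fun x => (l x : ℂ) * φ₀ x) x = ((l x ^ n * δ x : ℂˣ) : ℂ) := by
      intro x
      rw [(exists_twist hc0 l hn0).2 x, Units.val_mul, Units.val_pow_eq_pow_val]
      rfl
    refine D.coprime.coprime_dvd_left (orderOf_dvd_of_pow_eq_one (funext fun x => ?_))
    rw [Pi.pow_apply, hd, ← Units.val_pow_eq_pow_val, Pi.one_apply, Units.val_eq_one]
    -- reduce to the two generating subgroups
    let ψ : Γ →* ℂˣ := (l ^ n * δ) ^ Nat.card G
    have hψ : ψ = 1 := by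
      have hker : G ⊔ Subgroup.zpowers s ≤ ψ.ker := by
        refine sup_le (fun g hg => ?_) (Subgroup.zpowers_le.2 ?_)
        · have h1 : δ g ^ Nat.card G = 1 := by
            rw [← map_pow, congrArg Subtype.val (pow_card_eq_one' (x := (⟨g, hg⟩ : G))) |>
              fun h => show g ^ Nat.card G = 1 from h, map_one]
          rw [Nat.card_eq_fintype_card] at h1
          simp [ψ, MonoidHom.mem_ker, hl ⟨g, hg⟩, h1]
        · have hδ : δ s ^ orderOf s = 1 := by rw [← map_pow, pow_orderOf_eq_one, map_one]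
          have hea : δ s ^ (e * a * n) = δ s := by
            conv_rhs => rw [← pow_one (δ s)]
            refine pow_eq_pow_iff_modEq.2 (Nat.ModEq.of_dvd (orderOf_dvd_of_pow_eq_one hδ) ?_)
            calc e * a * n = e * (n * a) := by ring
              _ ≡ 1 * 1 [MOD orderOf s] := he2.mul ha
          simp [ψ, MonoidHom.mem_ker, l, ← pow_mul, hea]
      exact MonoidHom.ext fun x => hker (D.gen ▸ Subgroup.mem_top x)
    exact DFunLike.congr_fun hψ x

/-- Decomposition of an extension on `C × ⟨s⟩`. -/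
theorem exists_decomp (hφ : Cfsg.IsCharacter Γ φ) :
    ∃ (m : Cfsg.IrrCharacter (C × Subgroup.zpowers s) → ℕ)
      (z : Cfsg.IrrCharacter (C × Subgroup.zpowers s) → ℂ)
      (β : Cfsg.IrrCharacter (C × Subgroup.zpowers s) → Cfsg.IrrCharacter C),
      (∀ θ, z θ ^ orderOf s = 1) ∧
        ∀ (c : C) (k : ℕ), φ ((c : Γ) * s ^ k) = ∑ θ, (m θ : ℂ) * z θ ^ k * (β θ : C → ℂ) c := by
  classical
  let j : C × Subgroup.zpowers s →* Γ :=
    { toFun := fun p => (p.1 : Γ) * p.2
      map_one' := by simp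
      map_mul' := fun p q => by
        obtain ⟨i, hi⟩ := Subgroup.mem_zpowers_iff.1 p.2.2
        have hq : Commute ((q.1 : Γ)) s := ((D.mem_C _).1 q.1.2).2
        have h : (q.1 : Γ) * (p.2 : Γ) = p.2 * q.1 := hi ▸ (hq.zpow_right i).eq
        simp only [Prod.fst_mul, Prod.snd_mul, Subgroup.coe_mul]
        calc (p.1 : Γ) * q.1 * ((p.2 : Γ) * q.2) = p.1 * ((q.1 : Γ) * p.2) * q.2 := by group
          _ = _ := by rw [h]; group }
  haveI : Fintype (Subgroup.zpowers s) := Fintype.ofFinite _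
  obtain ⟨m, -, hdec⟩ := IsChar.exists_nat_mult (CharInduce.IsChar.comp hφ j)
  have hθ : ∀ θ : Cfsg.IrrCharacter (C × Subgroup.zpowers s), ∃ (β : Cfsg.IrrCharacter C)
      (L : Subgroup.zpowers s →* ℂˣ), ∀ p : C × Subgroup.zpowers s,
        (θ : C × Subgroup.zpowers s → ℂ) p = (β : C → ℂ) p.1 * (L p.2 : ℂ) := by
    intro θ
    obtain ⟨b, ψ, hb, hψ, he⟩ := CharInduce.exists_outer_of_isIrr θ.2
    have hcomm : ∀ u v : Subgroup.zpowers s, u * v = v * u := fun u v => mul_comm' u v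
    obtain ⟨L, hL⟩ := CharInduce.IsChar.exists_hom_of_degree_one (IsIrr.isCharacter hψ)
      (CharBasic.commutative_iff_forall_linear.1 hcomm ⟨ψ, hψ⟩)
    exact ⟨⟨b, hb⟩, L, fun p => by rw [he]; simp [hL]⟩
  choose β L hL using hθ
  refine ⟨m, fun θ => (L θ ⟨s, Subgroup.mem_zpowers s⟩ : ℂ), β, fun θ => ?_, fun c k => ?_⟩
  · rw [← Units.val_pow_eq_pow_val, ← map_pow,
      show (⟨s, Subgroup.mem_zpowers s⟩ : Subgroup.zpowers s) ^ orderOf s = 1 from
        Subtype.ext (by simp [pow_orderOf_eq_one]), map_one, Units.val_one]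
  · have h := congrFun hdec (c, (⟨s, Subgroup.mem_zpowers s⟩ : Subgroup.zpowers s) ^ k)
    simp only [Finset.sum_apply, Pi.smul_apply, smul_eq_mul, hL, map_pow, Units.val_pow_eq_pow_val] at h
    refine Eq.trans ?_ (h.trans (Finset.sum_congr rfl fun θ _ => by ring))
    show _ = φ ((c : Γ) * _)
    rw [Subgroup.coe_pow]

/-- Powers congruent to `k` modulo the order of `s` and to one modulo `|G|` are realised. -/
theorem exists_aut (k : ℕ) (hk : k.Coprime (orderOf s)) :
    ∃ σ : ℂ ≃+* ℂ, (∀ z : ℂ, z ^ Nat.card G = 1 → σ z = z) ∧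
      ∀ z : ℂ, z ^ orderOf s = 1 → σ z = z ^ k := by
  obtain ⟨k', h1, h2⟩ := Nat.chineseRemainder D.coprime 1 k
  have hG : k'.Coprime (Nat.card G) := by
    rw [Nat.Coprime, h1.gcd_eq, Nat.gcd_one_left]
  have hs : k'.Coprime (orderOf s) := by
    rw [Nat.Coprime, h2.gcd_eq]
    exact hk
  obtain ⟨σ, hσ⟩ := H43.exists_aut_pow (n := Nat.card G * orderOf s)
    (Nat.mul_ne_zero Nat.card_pos.ne' (orderOf_pos s).ne') (Nat.Coprime.mul_right hG hs)
  refine ⟨σ, fun z hz => ?_, fun z hz => ?_⟩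
  · rw [hσ z (by rw [pow_mul, hz, one_pow])]
    conv_rhs => rw [← pow_one z]
    rw [pow_eq_pow_mod _ hz, pow_eq_pow_mod 1 hz, show k' % Nat.card G = 1 % Nat.card G from h1]
  · rw [hσ z (by rw [mul_comm, pow_mul, hz, one_pow]), pow_eq_pow_mod _ hz,
      pow_eq_pow_mod k hz, show k' % orderOf s = k % orderOf s from h2]

theorem aut_fix_C {σ : ℂ ≃+* ℂ} (hσ : ∀ z : ℂ, z ^ Nat.card G = 1 → σ z = z)
    {β : C → ℂ} (hβ : Cfsg.IsCharacter C β) (c : C) : σ (β c) = β c := by
  refine H43.aut_eq_on_value (IsChar.isGeneralized hβ) c σ (RingEquiv.refl ℂ) fun z hz => hσ z ?_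
  obtain ⟨t, ht⟩ := (orderOf_dvd_natCard c).trans (Subgroup.card_dvd_of_le D.le)
  rw [ht, pow_mul, hz, one_pow]

/-- The values of a canonical extension on the cosets `C s'`, `s'` any generator, do not depend
on the generator. -/
theorem canon_gen_indep (h : IsCanon (s := s) χ φ) (k : ℕ) (hk : k.Coprime (orderOf s)) (c : C) :
    φ ((c : Γ) * s ^ k) = φ ((c : Γ) * s) := by
  obtain ⟨σ, hσ1, hσ2⟩ := exists_aut D k hk
  obtain ⟨m, z, β, hz, hdec⟩ := exists_decomp D (IsIrr.isCharacter h.irr)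
  rw [← canon_aut D h σ hσ1 ((c : Γ) * s), show (c : Γ) * s = (c : Γ) * s ^ 1 by rw [pow_one],
    hdec, hdec, map_sum]
  refine Finset.sum_congr rfl fun θ _ => ?_
  rw [map_mul, map_mul, map_natCast, pow_one, hσ2 _ (hz θ),
    aut_fix_C D hσ1 (IsIrr.isCharacter (β θ).2)]

theorem isClassFunction_value (h : IsCanon (s := s) χ φ) :
    Cfsg.IsClassFunction C fun c => φ ((c : Γ) * s) := by
  intro c x
  have hx : Commute ((x : Γ)) s := ((D.mem_C _).1 x.2).2
  show φ (((x * c * x⁻¹ : C) : Γ) * s) = φ ((c : Γ) * s)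
  rw [← IsIrr.isClassFunction h.irr ((c : Γ) * s) (x : Γ)]
  congr 1
  simp only [Subgroup.coe_mul, Subgroup.coe_inv]
  rw [mul_assoc, hx.inv_left.eq]
  group

theorem canon_value_inner (h : IsCanon (s := s) χ φ) (h' : IsCanon (s := s) χ' φ') [Decidable (χ = χ')] :
    Cfsg.classInner (fun c : C => φ ((c : Γ) * s)) (fun c : C => φ' ((c : Γ) * s)) =
      if χ = χ' then 1 else 0 := by
  have hsum := D.coset_sum (fun x => φ x * conj (φ' x)) fun a x => by
    rw [IsIrr.isClassFunction h.irr a x, IsIrr.isClassFunction h'.irr a x]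
  have hG : (Nat.card G : ℂ) ≠ 0 := by simp
  have hC : (Nat.card C : ℂ) ≠ 0 := by simp
  rw [classInner_def, inv_mul_eq_iff_eq_mul₀ hC]
  refine mul_left_cancel₀ hG (hsum.symm.trans ?_)
  split_ifs with he
  · subst he
    rw [← canon_unique D h h', canon_norm D h]
    ring
  · rw [canon_orth D h h' he]
    ring

/-- The correspondent and its sign. -/
theorem exists_correspondent (h : IsCanon (s := s) χ φ) :
    ∃ (β : Cfsg.IrrCharacter C) (ε : ℤ), (ε = 1 ∨ ε = -1) ∧
      (∀ c : C, φ ((c : Γ) * s) = (ε : ℂ) * (β : C → ℂ) c) ∧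
      Cfsg.classInner (fun c : C => χ ⟨c, D.le c.2⟩) (β : C → ℂ) ≠ 0 := by
  classical
  obtain ⟨m, z, b, hz, hdec⟩ := exists_decomp D (IsIrr.isCharacter h.irr)
  set u : C → ℂ := fun c => φ ((c : Γ) * s) with hu
  have hmult : ∀ (k : ℕ) (β : Cfsg.IrrCharacter C),
      Cfsg.classInner (fun c : C => φ ((c : Γ) * s ^ k)) (β : C → ℂ) =
        ∑ θ, if b θ = β then (m θ : ℂ) * z θ ^ k else 0 := by
    intro k β
    rw [show (fun c : C => φ ((c : Γ) * s ^ k)) = ∑ θ, ((m θ : ℂ) * z θ ^ k) • (b θ : C → ℂ) from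
      funext fun c => by rw [hdec, Finset.sum_apply]; rfl, classInner_sum_left]
    refine Finset.sum_congr rfl fun θ _ => ?_
    rw [classInner_smul_left, classInner_irrCharacter]
    split_ifs <;> simp
  have hu1 : ∀ β : Cfsg.IrrCharacter C, Cfsg.classInner u (β : C → ℂ) =
      ∑ θ, if b θ = β then (m θ : ℂ) * z θ else 0 := by
    intro β
    have := hmult 1 β
    simpa only [pow_one] using this
  have hint : ∀ β : Cfsg.IrrCharacter C, ∃ a : ℤ, Cfsg.classInner u (β : C → ℂ) = a := by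
    intro β
    have hI : IsIntegral ℤ (Cfsg.classInner u (β : C → ℂ)) := by
      rw [hu1]
      refine IsIntegral.sum _ fun θ _ => ?_
      split_ifs
      · refine IsIntegral.mul ?_ (IsIntegral.of_pow (orderOf_pos s) (by rw [hz θ]; exact isIntegral_one))
        simpa using isIntegral_algebraMap (R := ℤ) (A := ℂ) (x := (m θ : ℤ))
      · exact isIntegral_zero
    obtain ⟨q, hq⟩ := H43.rat_of_fixed hI.tower_top fun σ => by
      obtain ⟨k, hk, hσ⟩ := H43.aut_eq_pow σ (n := orderOf s) (orderOf_pos s).ne'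
      obtain ⟨τ, hτ1, hτ2⟩ := exists_aut D k hk
      have h1 : σ (Cfsg.classInner u (β : C → ℂ)) = τ (Cfsg.classInner u (β : C → ℂ)) := by
        rw [hu1, map_sum, map_sum]
        refine Finset.sum_congr rfl fun θ _ => ?_
        split_ifs
        · rw [map_mul, map_mul, map_natCast, map_natCast, hσ _ (hz θ), hτ2 _ (hz θ)]
        · rw [map_zero, map_zero]
      rw [h1]
      simp only [classInner_def, map_mul, map_inv₀, map_natCast, map_sum]
      congr 1
      refine Finset.sum_congr rfl fun c _ => ?_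
      rw [hu, canon_aut D h τ hτ1, ← IsChar.inv_apply (IsIrr.isCharacter β.2),
        aut_fix_C D hτ1 (IsIrr.isCharacter β.2)]
    exact H43.int_of_rat_integral hI hq
  have hgen : Cfsg.IsGeneralizedCharacter C u :=
    isGeneralized_iff_int.2 ⟨isClassFunction_value D h, hint⟩
  have hnorm : Cfsg.classInner u u = 1 := by
    rw [canon_value_inner D h h, if_pos rfl]
  obtain ⟨β, ε, hε, hval⟩ : ∃ (β : Cfsg.IrrCharacter C) (ε : ℤ), (ε = 1 ∨ ε = -1) ∧
      ∀ c, u c = (ε : ℂ) * (β : C → ℂ) c := by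
    rcases IsGen.norm_one hgen hnorm with hi | hi
    · exact ⟨⟨u, hi⟩, 1, Or.inl rfl, fun c => by simp⟩
    · exact ⟨⟨-u, hi⟩, -1, Or.inr rfl, fun c => by simp⟩
  refine ⟨β, ε, hε, hval, fun h0 => ?_⟩
  have hres : (fun c : C => χ ⟨c, D.le c.2⟩) = fun c : C => φ ((c : Γ) * s ^ 0) :=
    funext fun c => by rw [pow_zero, mul_one]; exact (h.res ⟨c, D.le c.2⟩).symm
  rw [hres, hmult 0 β] at h0
  have hm : ∀ θ, b θ = β → m θ = 0 := by
    have h1 : ((∑ θ, if b θ = β then m θ else 0 : ℕ) : ℂ) = 0 := by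
      rw [← h0]
      push_cast
      exact Finset.sum_congr rfl fun θ _ => by simp
    rw [Nat.cast_eq_zero, Finset.sum_eq_zero_iff] at h1
    intro θ hθ
    have := h1 θ (mem_univ _)
    rwa [if_pos hθ] at this
  have h2 := hu1 β
  rw [Finset.sum_eq_zero (fun θ _ => by split_ifs with hθ <;> simp [hm θ, *]),
    show u = (ε : ℂ) • (β : C → ℂ) from funext fun c => hval c, classInner_smul_left,
    classInner_irr_self β.2, mul_one] at h2
  rcases hε with rfl | rfl <;> simp at h2

/-- The number of invariant irreducible characters equals the number of irreducible characters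
of the centraliser. -/
theorem card_invariant :
    Nat.card {χ : Cfsg.IrrCharacter G //
      ∀ g g' : G, (g' : Γ) = s * g * s⁻¹ → (χ : G → ℂ) g' = (χ : G → ℂ) g} =
      Nat.card (Cfsg.IrrCharacter C) := by
  classical
  haveI := D.normal
  let f : G → G := fun g => MulAut.conjNormal s g
  have hf : ∀ χ : Cfsg.IrrCharacter G, Cfsg.IsIrrCharacter G ((χ : G → ℂ) ∘ f) := fun χ =>
    CharInduce.IsIrr.comp χ.2 (MulAut.conjNormal s : G ≃* G).toMonoidHom
      (MulAut.conjNormal s : G ≃* G).surjective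
  have h := CharInduce.card_fixed_irr_mul f hf
  have e1 : Nat.card {χ : Cfsg.IrrCharacter G //
      ∀ g g' : G, (g' : Γ) = s * g * s⁻¹ → (χ : G → ℂ) g' = (χ : G → ℂ) g} =
      Nat.card {χ : Cfsg.IrrCharacter G // (χ : G → ℂ) ∘ f = χ} := by
    refine Nat.card_congr (Equiv.subtypeEquivRight fun χ => ?_)
    constructor
    · exact fun hh => funext fun g => hh g (f g) (MulAut.conjNormal_apply s g)
    · intro hh g g' hg'
      rw [show g' = f g from Subtype.ext (hg'.trans (MulAut.conjNormal_apply s g).symm)]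
      exact congrFun hh g
  rw [e1]
  let t : Γ := s⁻¹
  have Dt : CycData G C t := ⟨D.normal, by rw [Subgroup.zpowers_inv]; exact D.gen,
    by rw [orderOf_inv]; exact D.coprime, fun c => by
      rw [D.mem_C]
      exact and_congr_right fun _ =>
        ⟨fun hc => (Commute.inv_right hc).eq, fun hc => by simpa [t] using (Commute.inv_right hc).eq⟩⟩
  let cnt : Γ → ℂ := fun a => (#(univ.filter fun g : G => a * g = g * a) : ℕ)
  have hcnt : ∀ a x, cnt (x * a * x⁻¹) = cnt a := by
    intro a x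
    simp only [cnt, Nat.cast_inj]
    refine (Finset.card_equiv (MulAut.conjNormal x : G ≃* G).toEquiv fun g => ?_).symm
    simp only [mem_filter, mem_univ, true_and, MulEquiv.toEquiv_eq_coe, MulEquiv.coe_toEquiv,
      MulAut.conjNormal_apply]
    constructor
    · intro e
      calc x * a * x⁻¹ * (x * g * x⁻¹) = x * (a * g) * x⁻¹ := by group
        _ = _ := by rw [e]; group
    · intro e
      calc a * g = x⁻¹ * (x * a * x⁻¹ * (x * g * x⁻¹)) * x := by group
        _ = _ := by rw [e]; group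
  have e2 : (Nat.card {p : G × G // p.2 * p.1 * p.2⁻¹ = f p.1} : ℂ) =
      ∑ g : G, cnt ((g : Γ) * t) := by
    rw [show Nat.card {p : G × G // p.2 * p.1 * p.2⁻¹ = f p.1} =
        Nat.card {q : G × G // q.1 * q.2 * q.1⁻¹ = f q.2} from
        Nat.card_congr (Equiv.subtypeEquiv (Equiv.prodComm G G) fun p => Iff.rfl),
      Nat.card_congr (Equiv.subtypeProdEquivSigmaSubtype fun x g => x * g * x⁻¹ = f g),
      Nat.card_sigma]
    push_cast
    refine Fintype.sum_equiv (MulAut.conjNormal t : G ≃* G).toEquiv _ _ fun x => ?_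
    simp only [cnt, Nat.card_eq_fintype_card, Fintype.card_subtype, Nat.cast_inj]
    refine congrArg Finset.card (Finset.filter_congr fun g _ => ?_)
    rw [Subtype.ext_iff]
    simp only [f, t, MulEquiv.toEquiv_eq_coe, MulEquiv.coe_toEquiv, MulAut.conjNormal_apply,
      Subgroup.coe_mul, Subgroup.coe_inv, inv_inv]
    constructor
    · intro e
      calc s⁻¹ * (x : Γ) * s * s⁻¹ * g = s⁻¹ * ((x : Γ) * g * (x : Γ)⁻¹) * x := by group
        _ = g * (s⁻¹ * (x : Γ) * s * s⁻¹) := by rw [e]; group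
    · intro e
      calc (x : Γ) * g * (x : Γ)⁻¹ = s * (s⁻¹ * (x : Γ) * s * s⁻¹ * g) * (x : Γ)⁻¹ := by group
        _ = s * g * s⁻¹ := by rw [e]; group
  have e3 : ∀ c : C, cnt ((c : Γ) * t) = (Nat.card {d : C // d * c * d⁻¹ = c} : ℂ) := by
    intro c
    simp only [cnt, Nat.card_eq_fintype_card, Fintype.card_subtype, Nat.cast_inj]
    symm
    refine Finset.card_bij (fun d _ => (⟨(d : Γ), D.le d.2⟩ : G)) ?_ ?_ ?_
    · intro d hd
      have h1 : (d : Γ) * c * (d : Γ)⁻¹ = c := by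
        have := congrArg Subtype.val (mem_filter.1 hd).2
        simpa using this
      have h2 : Commute (d : Γ) c := mul_inv_eq_iff_eq_mul.1 h1
      have h3 : Commute (d : Γ) t := ((Dt.mem_C _).1 d.2).2
      exact mem_filter.2 ⟨mem_univ _, (h2.mul_right h3).eq.symm⟩
    · intro d _ d' _ hdd
      exact Subtype.ext (congrArg (fun g : G => (g : Γ)) hdd)
    · intro g hg
      have h1 : (g : Γ) * ((c : Γ) * t) * (g : Γ)⁻¹ = (c : Γ) * t := by
        rw [← (mem_filter.1 hg).2, mul_inv_cancel_right]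
      obtain ⟨hgC, hgc⟩ := Dt.rigid g.2 c.2 c.2 h1
      exact ⟨⟨g, hgC⟩, mem_filter.2 ⟨mem_univ _, Subtype.ext (by simpa using hgc)⟩, rfl⟩
  have e4 : ∑ c : C, cnt ((c : Γ) * t) = (Nat.card C : ℂ) * (Nat.card (Cfsg.IrrCharacter C) : ℂ) := by
    simp only [e3, ← second_orthogonality_count]
    rw [Finset.sum_comm]
    have hC : (Nat.card C : ℂ) ≠ 0 := by simp
    have : ∀ β : Cfsg.IrrCharacter C, ∑ c : C, (β : C → ℂ) c * conj ((β : C → ℂ) c) = (Nat.card C : ℂ) :=
      fun β => by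
        have hh := classInner_irr_self β.2
        rwa [classInner_def, inv_mul_eq_one₀ hC, eq_comm] at hh
    rw [Finset.sum_congr rfl fun β _ => this β, Finset.sum_const, Finset.card_univ, nsmul_eq_mul,
      ← Nat.card_eq_fintype_card, mul_comm]
  have hfin := Dt.coset_sum cnt hcnt
  rw [← e2, e4, ← h] at hfin
  push_cast at hfin
  have hG : (Nat.card G : ℂ) ≠ 0 := by simp
  have hC : (Nat.card C : ℂ) ≠ 0 := by simp
  refine Nat.cast_injective (R := ℂ) (mul_left_cancel₀ (mul_ne_zero hG hC) ?_)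
  linear_combination hfin

end Cfsg.Agent.H1
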