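import Mathlib
import Cfsg.Prelude.Def_Characters
import Cfsg.Agent.Coprime.SchurZassenhaus

/-!
# A coset `G s` of a normal subgroup for a coprime element `s`
-/

namespace Cfsg.Agent.H1

open Finset

variable {Γ : Type*} [Group Γ]

/-- `s` generates a coprime complement of the normal subgroup `G`, with centraliser `C` in `G`. -/
structure CycData (G C : Subgroup Γ) (s : Γ) : Prop where
  normal : G.Normal
  gen : G ⊔ Subgroup.zpowers s = ⊤
  coprime : (Nat.card G).Coprime (orderOf s)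
  mem_C : ∀ c, c ∈ C ↔ c ∈ G ∧ c * s = s * c

namespace CycData

variable {G C : Subgroup Γ} {s : Γ} (D : CycData G C s)

include D

theorem le : C ≤ G := fun _ hc => ((D.mem_C _).1 hc).1

theorem pow_orderOf (i : ℕ) (hi : s ^ i ∈ G) : s ^ i = 1 := by
  have h1 : orderOf (s ^ i) ∣ Nat.card G := by
    have := orderOf_dvd_natCard (⟨s ^ i, hi⟩ : G)
    rwa [Subgroup.orderOf_mk] at this
  have h2 : orderOf (s ^ i) ∣ orderOf s := orderOf_pow_dvd i
  exact orderOf_eq_one_iff.1 (Nat.eq_one_of_dvd_coprimes D.coprime h1 h2)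

variable [Finite Γ]

theorem exists_exponent : ∃ e : ℕ, Nat.card G ∣ e ∧ e ≡ 1 [MOD orderOf s] := by
  obtain ⟨e, h1, h2⟩ := Nat.chineseRemainder D.coprime 0 1
  exact ⟨e, Nat.modEq_zero_iff_dvd.1 h1, h2⟩

theorem mk_pow_eq_one (a : Γ) : a ^ (Nat.card G * orderOf s) = 1 := by
  haveI := D.normal
  have h1 : (QuotientGroup.mk' G a) ^ orderOf s = 1 := by
    have htop : (Subgroup.zpowers (QuotientGroup.mk' G s)) = ⊤ := by
      rw [← MonoidHom.map_zpowers, eq_top_iff, ← Subgroup.map_top_of_surjective _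
        (QuotientGroup.mk'_surjective G), ← D.gen, Subgroup.map_sup,
        (Subgroup.map_eq_bot_iff _).2 (QuotientGroup.ker_mk' G).ge, bot_sup_eq]
    obtain ⟨i, hi⟩ := Subgroup.mem_zpowers_iff.1 (htop ▸ Subgroup.mem_top (QuotientGroup.mk' G a))
    rw [← hi, ← zpow_natCast, ← zpow_mul, mul_comm, zpow_mul, zpow_natCast, ← map_pow,
      pow_orderOf_eq_one, map_one, one_zpow]
  rw [← map_pow, QuotientGroup.mk'_apply, QuotientGroup.eq_one_iff] at h1
  rw [mul_comm, pow_mul]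
  exact congrArg Subtype.val (pow_card_eq_one' (x := (⟨_, h1⟩ : G)))

theorem exists_conj {g : Γ} (hg : g ∈ G) :
    ∃ x ∈ G, ∃ c ∈ C, g * s = x * (c * s) * x⁻¹ := by
  classical
  haveI := D.normal
  obtain ⟨e, he1, he2⟩ := D.exists_exponent
  set π := QuotientGroup.mk' G
  have hπg : π g = 1 := (QuotientGroup.eq_one_iff g).2 hg
  have hs : s ^ e = s := by
    conv_rhs => rw [← pow_one s]
    exact pow_eq_pow_iff_modEq.2 he2
  set y := (g * s) ^ e with hy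
  have hπy : π y = π s := by
    rw [hy, map_pow, map_mul, hπg, one_mul, ← map_pow, hs]
  have hord : orderOf y = orderOf s := by
    refine Nat.dvd_antisymm (orderOf_dvd_of_pow_eq_one ?_) ?_
    · obtain ⟨t, rfl⟩ := he1
      rw [hy, ← pow_mul, mul_right_comm, pow_mul, D.mk_pow_eq_one, one_pow]
    · refine orderOf_dvd_of_pow_eq_one (D.pow_orderOf _ ((QuotientGroup.eq_one_iff _).1 ?_))
      show π (s ^ orderOf y) = 1
      rw [map_pow, ← hπy, ← map_pow, pow_orderOf_eq_one, map_one]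
  obtain ⟨x, hx, hH⟩ := Coprime.exists_conj_of_le_sup (N := G) (H₁ := Subgroup.zpowers s)
    (H₂ := Subgroup.zpowers y) (le_top.trans (Subgroup.normalizer_eq_top_iff.2 D.normal).ge)
    (D.gen ▸ le_top) (by rw [Nat.card_zpowers, Nat.card_zpowers, hord])
    (by rw [Nat.card_zpowers]; exact D.coprime.symm)
    (Or.inl inferInstance)
  have hyx : y ∈ (Subgroup.zpowers s).map (MulAut.conj x).toMonoidHom :=
    hH ▸ Subgroup.mem_zpowers y
  obtain ⟨z, hz, hzy⟩ := hyx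
  obtain ⟨i, rfl⟩ := mem_zpowers_iff_mem_range_orderOf.1 hz |> Finset.mem_image.1 |>.imp fun i hi => hi.2
  have hzy' : x * s ^ i * x⁻¹ = y := hzy
  have hsi : s ^ i = s := by
    have hπx : π x = 1 := (QuotientGroup.eq_one_iff x).2 hx
    have h1 : π (s ^ i) = π s := by
      rw [← hπy, ← hzy', map_mul, map_mul, hπx, map_inv, hπx]
      simp
    have h2 : s⁻¹ * s ^ i ∈ G :=
      (QuotientGroup.eq_one_iff _).1 (show π (s⁻¹ * s ^ i) = 1 by
        rw [map_mul, map_inv, h1, inv_mul_cancel])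
    have h3 : s ^ (orderOf s - 1 + i) = 1 := by
      refine D.pow_orderOf _ ?_
      have : s⁻¹ = s ^ (orderOf s - 1) := by
        rw [inv_eq_iff_mul_eq_one, ← pow_succ',
          Nat.sub_add_cancel (orderOf_pos s), pow_orderOf_eq_one]
      rwa [pow_add, ← this]
    rw [pow_add] at h3
    have : s * (s ^ (orderOf s - 1) * s ^ i) = s := by rw [h3, mul_one]
    rwa [← mul_assoc, ← pow_succ', Nat.sub_add_cancel (orderOf_pos s), pow_orderOf_eq_one,
      one_mul] at this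
  rw [hsi] at hzy'
  have hcomm : Commute (g * s) y := (Commute.refl _).pow_right e
  refine ⟨x, hx, x⁻¹ * (g * s) * x * s⁻¹, (D.mem_C _).2 ⟨?_, ?_⟩, by group⟩
  · rw [show x⁻¹ * (g * s) * x * s⁻¹ = x⁻¹ * g * (s * x * s⁻¹) by group]
    exact G.mul_mem (G.mul_mem (G.inv_mem hx) hg) (D.normal.conj_mem x hx s)
  · have h : x⁻¹ * (g * s) * x * s = s * (x⁻¹ * (g * s) * x) := by
      have h0 := hcomm.eq
      rw [← hzy'] at h0
      calc x⁻¹ * (g * s) * x * s = x⁻¹ * ((g * s) * (x * s * x⁻¹)) * x := by group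
        _ = x⁻¹ * ((x * s * x⁻¹) * (g * s)) * x := by rw [h0]
        _ = _ := by group
    calc x⁻¹ * (g * s) * x * s⁻¹ * s = x⁻¹ * (g * s) * x * s * s⁻¹ := by group
      _ = s * (x⁻¹ * (g * s) * x) * s⁻¹ := by rw [h]
      _ = s * (x⁻¹ * (g * s) * x * s⁻¹) := by group

theorem rigid {x c c' : Γ} (hx : x ∈ G) (hc : c ∈ C) (hc' : c' ∈ C)
    (h : x * (c * s) * x⁻¹ = c' * s) : x ∈ C ∧ x * c * x⁻¹ = c' := by
  haveI := D.normal
  obtain ⟨e, he1, he2⟩ := D.exists_exponent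
  have hce : ∀ d ∈ C, (d * s) ^ e = s := by
    intro d hd
    have hd' := (D.mem_C d).1 hd
    rw [(show Commute d s from hd'.2).mul_pow]
    obtain ⟨t, ht⟩ := he1
    have h1 : d ^ Nat.card G = 1 :=
      congrArg Subtype.val (pow_card_eq_one' (x := (⟨d, hd'.1⟩ : G)))
    rw [ht, pow_mul, h1, one_pow, one_mul, ← ht]
    conv_rhs => rw [← pow_one s]
    exact pow_eq_pow_iff_modEq.2 he2
  have h1 := congrArg (fun z => z ^ e) h
  simp only [conj_pow, hce c hc, hce c' hc'] at h1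
  have hxs : x * s = s * x := by
    rwa [mul_inv_eq_iff_eq_mul] at h1
  refine ⟨(D.mem_C x).2 ⟨hx, hxs⟩, ?_⟩
  have hxs' : s * x⁻¹ = x⁻¹ * s := by
    calc s * x⁻¹ = x⁻¹ * (x * s) * x⁻¹ := by group
      _ = x⁻¹ * s := by rw [hxs]; group
  rw [show x * (c * s) * x⁻¹ = x * c * (s * x⁻¹) by group, hxs', ← mul_assoc] at h
  exact mul_right_cancel h

open scoped Classical in
theorem coset_sum [Fintype G] [Fintype C] (F : Γ → ℂ) (hF : ∀ a x, F (x * a * x⁻¹) = F a) :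
    (Nat.card C : ℂ) * ∑ g : G, F ((g : Γ) * s) = (Nat.card G : ℂ) * ∑ c : C, F ((c : Γ) * s) := by
  haveI := D.normal
  let Φ : G × C → G := fun p =>
    ⟨(p.1 : Γ) * ((p.2 : Γ) * s) * (p.1 : Γ)⁻¹ * s⁻¹, by
      rw [show (p.1 : Γ) * ((p.2 : Γ) * s) * (p.1 : Γ)⁻¹ * s⁻¹ =
        (p.1 : Γ) * p.2 * (s * (p.1 : Γ)⁻¹ * s⁻¹) by group]
      exact G.mul_mem (G.mul_mem p.1.2 (D.le p.2.2)) (D.normal.conj_mem _ (G.inv_mem p.1.2) s)⟩
  have hΦ : ∀ p, ((Φ p : G) : Γ) * s = (p.1 : Γ) * ((p.2 : Γ) * s) * (p.1 : Γ)⁻¹ := fun p => by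
    simp [Φ]
  have hfib : ∀ g : G, #(univ.filter fun p => Φ p = g) = Nat.card C := by
    intro g
    obtain ⟨x₀, hx₀, c₀, hc₀, h0⟩ := D.exists_conj g.2
    rw [Nat.card_eq_fintype_card, ← card_univ]
    symm
    refine Finset.card_bij (fun d _ => (⟨x₀ * (d : C), G.mul_mem hx₀ (D.le d.2)⟩,
      (⟨(d : Γ)⁻¹ * c₀ * d, C.mul_mem (C.mul_mem (C.inv_mem d.2) hc₀) d.2⟩ : C))) ?_ ?_ ?_
    · intro d _
      rw [mem_filter]
      refine ⟨mem_univ _, Subtype.ext (mul_right_cancel (b := s) ?_)⟩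
      rw [hΦ, h0]
      have hd : s * (d : Γ)⁻¹ = (d : Γ)⁻¹ * s := by
        have hd := ((D.mem_C _).1 (C.inv_mem d.2)).2
        exact hd.symm
      calc x₀ * (d : Γ) * ((d : Γ)⁻¹ * c₀ * d * s) * (x₀ * d)⁻¹
          = x₀ * c₀ * d * (s * (d : Γ)⁻¹) * x₀⁻¹ := by group
        _ = x₀ * (c₀ * s) * x₀⁻¹ := by rw [hd]; group
    · intro d _ d' _ h
      have := congrArg (fun p : G × C => (p.1 : Γ)) h
      exact Subtype.ext (mul_left_cancel this)
    · rintro ⟨x, c⟩ hp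
      have h1 : (x : Γ) * ((c : Γ) * s) * (x : Γ)⁻¹ = x₀ * (c₀ * s) * x₀⁻¹ := by
        rw [← h0, ← (mem_filter.1 hp).2, hΦ]
      obtain ⟨hd, hcd⟩ := D.rigid (x := x₀⁻¹ * x) (G.mul_mem (G.inv_mem hx₀) x.2) c.2 hc₀ (by
        calc x₀⁻¹ * x * ((c : Γ) * s) * (x₀⁻¹ * x)⁻¹
            = x₀⁻¹ * ((x : Γ) * ((c : Γ) * s) * (x : Γ)⁻¹) * x₀ := by group
          _ = c₀ * s := by rw [h1]; group)
      refine ⟨⟨_, hd⟩, mem_univ _, ?_⟩
      refine Prod.ext (Subtype.ext (mul_inv_cancel_left x₀ _)) (Subtype.ext ?_)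
      show (x₀⁻¹ * x)⁻¹ * c₀ * (x₀⁻¹ * x) = c
      rw [← hcd]
      group
  have h := sum_fiberwise (univ : Finset (G × C)) Φ fun p => F ((Φ p : Γ) * s)
  have e1 : ∀ g : G, ∑ p ∈ univ.filter (fun p => Φ p = g), F ((Φ p : Γ) * s) =
      (Nat.card C : ℂ) * F ((g : Γ) * s) := by
    intro g
    rw [sum_congr rfl fun p hp => by rw [(mem_filter.1 hp).2], sum_const, hfib, nsmul_eq_mul]
  rw [sum_congr rfl fun g _ => e1 g, ← mul_sum] at h
  simp only [hΦ, hF, Fintype.sum_prod_type, sum_const, card_univ, nsmul_eq_mul,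
    ← Nat.card_eq_fintype_card] at h
  exact h

end CycData

end Cfsg.Agent.H1
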