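import Cfsg.Agent.BlockBasic.Idem
import Cfsg.Agent.BlockBasic.Basic
import Cfsg.Agent.CharInduce.Induce
import Cfsg.Agent.CharBasic.Virtual
import Cfsg.Agent.CharBasic.Integral

/-!
# The Fong-Reynolds correspondence of blocks over a block of a normal subgroup
-/

open scoped ComplexConjugate
open MonoidAlgebra

namespace Cfsg.Agent.H1

open Cfsg.Agent.CharBasic Cfsg.Agent.BlockBasic

universe u v

/-- Disjointness of characters can be detected after pulling back along a homomorphism. -/
theorem classInner_eq_zero_of_comp {D : Type u} [Group D] [Fintype D] {N : Type v} [Group N]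
    [Fintype N] (j : N →* D) {a b : D → ℂ} (ha : Cfsg.IsCharacter D a) (hb : Cfsg.IsCharacter D b)
    (h : Cfsg.classInner (fun n => a (j n)) (fun n => b (j n)) = 0) :
    Cfsg.classInner a b = 0 := by
  classical
  obtain ⟨m, hm, ha'⟩ := IsChar.exists_nat_mult ha
  obtain ⟨k, hk, hb'⟩ := IsChar.exists_nat_mult hb
  choose c hc using fun φ φ' : Cfsg.IrrCharacter D =>
    classInner_isChar_nat (CharInduce.IsChar.comp (IsIrr.isCharacter φ.2) j)
      (CharInduce.IsChar.comp (IsIrr.isCharacter φ'.2) j)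
  have hexp : Cfsg.classInner (fun n => a (j n)) (fun n => b (j n)) =
      ((∑ φ : Cfsg.IrrCharacter D, ∑ φ' : Cfsg.IrrCharacter D, m φ * k φ' * c φ φ' : ℕ) : ℂ) := by
    have e1 : (fun n => a (j n)) = ∑ φ : Cfsg.IrrCharacter D, (m φ : ℂ) • fun n => (φ : D → ℂ) (j n) := by
      funext n
      rw [ha']
      simp [Finset.sum_apply]
    have e2 : (fun n => b (j n)) = ∑ φ : Cfsg.IrrCharacter D, (k φ : ℂ) • fun n => (φ : D → ℂ) (j n) := by
      funext n
      rw [hb']
      simp [Finset.sum_apply]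
    rw [e1, e2, classInner_sum_left]
    simp only [classInner_sum_right, classInner_smul_left, classInner_smul_right, Complex.conj_natCast,
      hc, Finset.mul_sum, Nat.cast_sum, Nat.cast_mul]
    exact Finset.sum_congr rfl fun φ _ => Finset.sum_congr rfl fun φ' _ => by ring
  rw [hexp, Nat.cast_eq_zero, Finset.sum_eq_zero_iff] at h
  rw [classInner_eq_sum (IsChar.isClassFunction ha)]
  refine Finset.sum_eq_zero fun φ _ => ?_
  have h1 := (Finset.sum_eq_zero_iff.1 (h φ (Finset.mem_univ _))) φ (Finset.mem_univ _)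
  have h2 : c φ φ ≠ 0 := by
    intro h0
    have := hc φ φ
    rw [h0, Nat.cast_zero, classInner_self_eq_zero] at this
    have h3 := congrFun this 1
    simp only [map_one, Pi.zero_apply] at h3
    exact IsIrr.one_ne_zero φ.2 h3
  rw [Nat.mul_eq_zero, Nat.mul_eq_zero] at h1
  rcases h1 with (h1 | h1) | h1
  · simp [hm, h1]
  · simp [hk, h1]
  · exact absurd h1 h2

variable {G : Type u} [Group G] (N : Subgroup G) [hN : N.Normal]

theorem index_centralizer_conjNormal (g : G) (n : N) :
    (Subgroup.centralizer ({MulAut.conjNormal g n} : Set N)).index =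
      (Subgroup.centralizer ({n} : Set N)).index := by
  rw [← card_conjugates_eq_index, ← card_conjugates_eq_index]
  refine Nat.card_congr (Equiv.subtypeEquiv (MulAut.conjNormal g : N ≃* N).toEquiv fun m => ?_).symm
  exact (⟨fun h => MonoidHom.map_isConj (MulAut.conjNormal g : N ≃* N).toMonoidHom h,
    fun h => by
      have h' := MonoidHom.map_isConj (MulAut.conjNormal g : N ≃* N).symm.toMonoidHom h
      simpa only [MulEquiv.toMonoidHom_eq_coe, MonoidHom.coe_coe, MulEquiv.symm_apply_apply]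
        using h'⟩ :
      IsConj n m ↔ IsConj (MulAut.conjNormal g n) (MulAut.conjNormal g m))

theorem centralChar_conjFun (θ : N → ℂ) (g : G) (n : N) :
    Cfsg.centralChar (CharInduce.conjFun N θ g) n = Cfsg.centralChar θ (MulAut.conjNormal g n) := by
  rw [Cfsg.centralChar, Cfsg.centralChar, index_centralizer_conjNormal]
  congr 1
  simp [CharInduce.conjFun]
  rfl

/-- The conjugate irreducible character. -/
noncomputable def conjIrr [Finite G] (θ : Cfsg.IrrCharacter N) (g : G) : Cfsg.IrrCharacter N :=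
  ⟨CharInduce.conjFun N θ g, CharInduce.isIrrCharacter_conjFun N θ.2 g⟩

section Block

variable [Fintype G] [Fintype N] (T : Subgroup G) (b : Set (Cfsg.IrrCharacter N))

/-- `T` stabilises `b` and every element outside moves all of `b` off itself. -/
structure IsBlockStab : Prop where
  stab : ∀ g ∈ T, ∀ θ ∈ b, conjIrr N θ g ∈ b
  off : ∀ g, g ∉ T → ∀ θ ∈ b, conjIrr N θ g ∉ b

theorem isBlockStab_of {p : ℕ} {M : Ideal Cfsg.AlgInt} (hM : Cfsg.IsPModular p M)
    (hb : Cfsg.IsPBlock M b)
    (hT : ∀ g : G, g ∈ T ↔ ∀ θ ∈ b, ∀ θ' : Cfsg.IrrCharacter N,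
      (∀ n : N, (θ' : N → ℂ) n = (θ : N → ℂ) ⟨g * n * g⁻¹, hN.conj_mem n n.2 g⟩) → θ' ∈ b) :
    IsBlockStab N T b := by
  refine ⟨fun g hg θ hθ => (hT g).1 hg θ hθ _ fun n => rfl, fun g hg θ hθ hmem => hg ?_⟩
  refine (hT g).2 fun θ₁ hθ₁ θ' hθ' => ?_
  have e : θ' = conjIrr N θ₁ g := Subtype.ext (funext hθ')
  subst e
  obtain ⟨χ, rfl⟩ := hb
  have h1 : Cfsg.SameBlock M (θ : N → ℂ) (θ₁ : N → ℂ) :=
    sameBlock_trans hM (sameBlock_symm hθ) hθ₁
  refine sameBlock_trans hM (hmem : Cfsg.SameBlock M _ _) fun n => ?_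
  show Cfsg.MemLocalIdeal M (Cfsg.centralChar (CharInduce.conjFun N (θ : N → ℂ) g) n -
    Cfsg.centralChar (CharInduce.conjFun N (θ₁ : N → ℂ) g) n)
  rw [centralChar_conjFun, centralChar_conjFun]
  exact h1 _

variable {T b} (hs : IsBlockStab N T b) (hNT : N ≤ T) [Fintype T]

/-- Lying over `b`. -/
def Covers (χ : T → ℂ) : Prop :=
  ∃ θ ∈ b, Cfsg.classInner (fun n : N => χ (Subgroup.inclusion hNT n)) (θ : N → ℂ) ≠ 0

/-- The block idempotent of `b` in the group algebra of `T`. -/
noncomputable def bElem : MonoidAlgebra ℂ T :=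
  MonoidAlgebra.mapDomainRingHom ℂ (Subgroup.inclusion hNT) (blockElem b)

theorem coeff_bElem (n : N) :
    (bElem N hNT (b := b)).coeff (Subgroup.inclusion hNT n) = Cfsg.blockCoeff b n := by
  rw [← coeff_blockElem b n]
  exact Finsupp.mapDomain_apply (Subgroup.inclusion_injective hNT) _ n

theorem coeff_bElem_of_notMem {t : T} (ht : (t : G) ∉ N) :
    (bElem N hNT (b := b)).coeff t = 0 := by
  refine Finsupp.mapDomain_of_notMem_range _ t ?_
  rintro ⟨n, rfl⟩
  exact ht n.2

theorem chiLin_bElem_left (χ : T → ℂ) :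
    chiLin χ (bElem N hNT (b := b)) =
      chiLin (fun n : N => χ (Subgroup.inclusion hNT n)) (blockElem b) := by
  rw [bElem]
  generalize blockElem b = w
  induction w using MonoidAlgebra.induction_linear with
  | zero => simp [chiLin]
  | add x y hx hy => rw [map_add, chiLin_add, chiLin_add, hx, hy]
  | single m r =>
    rw [show MonoidAlgebra.mapDomainRingHom ℂ (Subgroup.inclusion hNT) (single m r) =
      single (Subgroup.inclusion hNT m) r by simp, chiLin_single, chiLin_single]

include hs in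
theorem isCentralElt_bElem : IsCentralElt (bElem N hNT (b := b)) := by
  classical
  intro t x
  show (bElem N hNT (b := b)).coeff (x * t * x⁻¹) = (bElem N hNT (b := b)).coeff t
  by_cases ht : (t : G) ∈ N
  · let n : N := ⟨t, ht⟩
    have e1 : x * t * x⁻¹ = Subgroup.inclusion hNT (MulAut.conjNormal (x : G) n) :=
      Subtype.ext (MulAut.conjNormal_apply (x : G) n).symm
    have e2 : t = Subgroup.inclusion hNT n := rfl
    rw [e1, coeff_bElem]
    conv_rhs => rw [e2, coeff_bElem]
    simp only [Cfsg.blockCoeff]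
    congr 1
    rw [finsum_mem_eq_sum_ite, finsum_mem_eq_sum_ite]
    have hinj : Function.Injective fun θ : Cfsg.IrrCharacter N => conjIrr N θ (x : G) := by
      intro θ θ' h
      refine Subtype.ext (funext fun m => ?_)
      obtain ⟨m', rfl⟩ := (MulAut.conjNormal (x : G) : N ≃* N).surjective m
      have hm := congrFun (congrArg Subtype.val h) m'
      simp only [conjIrr, CharInduce.conjFun] at hm
      convert hm using 2 <;> exact Subtype.ext (MulAut.conjNormal_apply (x : G) m')
    let e : Cfsg.IrrCharacter N ≃ Cfsg.IrrCharacter N :=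
      Equiv.ofBijective _ (Finite.injective_iff_bijective.1 hinj)
    have hmem : ∀ θ, e θ ∈ b ↔ θ ∈ b := fun θ => by
      refine ⟨fun h => ?_, fun h => hs.stab _ x.2 θ h⟩
      have := hs.stab (x : G)⁻¹ (T.inv_mem x.2) _ h
      convert this using 1
      refine Subtype.ext (funext fun m => ?_)
      simp [e, conjIrr, CharInduce.conjFun, mul_assoc]
    refine Fintype.sum_equiv e _ _ fun θ => ?_
    simp only [hmem]
    refine if_congr Iff.rfl ?_ rfl
    have h1 : ((e θ : Cfsg.IrrCharacter N) : N → ℂ) 1 = (θ : N → ℂ) 1 := by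
      simp [e, conjIrr, CharInduce.conjFun]
      rfl
    have h2 : ((e θ : Cfsg.IrrCharacter N) : N → ℂ) n =
        (θ : N → ℂ) (MulAut.conjNormal (x : G) n) := by
      simp only [e, Equiv.ofBijective_apply, conjIrr, CharInduce.conjFun]
      exact congrArg _ (Subtype.ext (MulAut.conjNormal_apply (x : G) n).symm)
    rw [h1, h2]
  · rw [coeff_bElem_of_notMem N hNT ht, coeff_bElem_of_notMem]
    intro h
    exact ht (by simpa [mul_assoc] using hN.conj_mem _ h (x : G)⁻¹)

theorem bElem_idem : bElem N hNT (b := b) * bElem N hNT (b := b) = bElem N hNT (b := b) := by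
  rw [bElem, ← map_mul, blockElem_idem]

theorem isIntElt_bElem {p : ℕ} {M : Ideal Cfsg.AlgInt} (hM : Cfsg.IsPModular p M)
    (hb : Cfsg.IsPBlock M b) : IsIntElt M (bElem N hNT (b := b)) := by
  intro t
  by_cases ht : (t : G) ∈ N
  · rw [show t = Subgroup.inclusion hNT ⟨t, ht⟩ from rfl, coeff_bElem]
    exact memLocalRing_blockCoeff hM hb _
  · rw [coeff_bElem_of_notMem N hNT ht]
    exact memLocalRing_natCast hM 0 |> fun h => by simpa using h

include hs in
open scoped Classical in
theorem omega_bElem (ψ : Cfsg.IrrCharacter T) :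
    omega (ψ : T → ℂ) (bElem N hNT (b := b)) =
      if Covers N hNT (b := b) (ψ : T → ℂ) then 1 else 0 := by
  obtain ⟨m, hm, hψ⟩ := IsChar.exists_nat_mult
    (CharInduce.IsChar.comp (IsIrr.isCharacter ψ.2) (Subgroup.inclusion hNT))
  choose d hd hd1 using fun μ : Cfsg.IrrCharacter N => IsIrr.exists_degree μ.2
  have hchi : chiLin (ψ : T → ℂ) (bElem N hNT (b := b)) =
      ((∑ μ : Cfsg.IrrCharacter N, if μ ∈ b then m μ * d μ else 0 : ℕ) : ℂ) := by
    rw [chiLin_bElem_left, hψ]
    simp only [chiLin, Finset.sum_apply, Pi.smul_apply, smul_eq_mul, Finset.mul_sum]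
    rw [Finset.sum_comm, Nat.cast_sum]
    refine Finset.sum_congr rfl fun μ _ => ?_
    have := omega_blockElem b μ
    rw [omega, div_eq_iff (IsIrr.one_ne_zero μ.2)] at this
    simp only [mul_left_comm _ (m μ : ℂ), ← Finset.mul_sum]
    rw [show ∑ n : N, (blockElem b).coeff n * (μ : N → ℂ) n = chiLin (μ : N → ℂ) (blockElem b) from rfl,
      this, hd1]
    split_ifs <;> simp
  have hid : omega (ψ : T → ℂ) (bElem N hNT (b := b)) = 0 ∨
      omega (ψ : T → ℂ) (bElem N hNT (b := b)) = 1 := by
    have h := omega_mul ψ.2 (isCentralElt_bElem N hs hNT) (bElem N hNT (b := b))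
    rw [bElem_idem] at h
    set w := omega (ψ : T → ℂ) (bElem N hNT (b := b))
    rcases eq_or_ne w 0 with h0 | h0
    · exact Or.inl h0
    · exact Or.inr (mul_left_cancel₀ h0 (by rw [mul_one]; exact h.symm))
  have h0 : omega (ψ : T → ℂ) (bElem N hNT (b := b)) = 0 ↔ ¬ Covers N hNT (b := b) (ψ : T → ℂ) := by
    rw [omega, div_eq_zero_iff, or_iff_left (IsIrr.one_ne_zero ψ.2), hchi, Nat.cast_eq_zero,
      Finset.sum_eq_zero_iff]
    constructor
    · rintro h ⟨θ, hθ, hne⟩
      have := h θ (Finset.mem_univ _)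
      rw [if_pos hθ, Nat.mul_eq_zero] at this
      exact hne (by rw [hm, this.resolve_right (hd θ).ne', Nat.cast_zero])
    · intro h μ _
      split_ifs with hμ
      · have : m μ = 0 := by
          by_contra hne
          exact h ⟨μ, hμ, by rw [hm]; exact_mod_cast hne⟩
        rw [this, zero_mul]
      · rfl
  by_cases hc : Covers N hNT (b := b) (ψ : T → ℂ)
  · rw [if_pos hc]
    exact hid.resolve_left fun h => h0.1 h hc
  · rw [if_neg hc, h0.2 hc]

include hs in
/-- All constituents on `N` of a character of `T` lying over `b` lie in `b`. -/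
theorem mem_of_covers {ψ : Cfsg.IrrCharacter T} (hc : Covers N hNT (b := b) (ψ : T → ℂ))
    {μ : Cfsg.IrrCharacter N}
    (hμ : Cfsg.classInner (fun n : N => (ψ : T → ℂ) (Subgroup.inclusion hNT n)) (μ : N → ℂ) ≠ 0) :
    μ ∈ b := by
  classical
  obtain ⟨m, hm, hψ⟩ := IsChar.exists_nat_mult
    (CharInduce.IsChar.comp (IsIrr.isCharacter ψ.2) (Subgroup.inclusion hNT))
  choose d hd hd1 using fun μ : Cfsg.IrrCharacter N => IsIrr.exists_degree μ.2
  have h := omega_bElem N hs hNT ψ
  rw [if_pos hc, omega, div_eq_iff (IsIrr.one_ne_zero ψ.2), one_mul, chiLin_bElem_left] at h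
  have h1 : (ψ : T → ℂ) 1 = ((∑ μ : Cfsg.IrrCharacter N, m μ * d μ : ℕ) : ℂ) := by
    have := congrFun hψ 1
    simp only [map_one, Finset.sum_apply, Pi.smul_apply, smul_eq_mul, hd1] at this
    rw [this]
    push_cast
    rfl
  have h2 : chiLin (fun n : N => (ψ : T → ℂ) (Subgroup.inclusion hNT n)) (blockElem b) =
      ((∑ μ : Cfsg.IrrCharacter N, if μ ∈ b then m μ * d μ else 0 : ℕ) : ℂ) := by
    rw [hψ]
    simp only [chiLin, Finset.sum_apply, Pi.smul_apply, smul_eq_mul, Finset.mul_sum]
    rw [Finset.sum_comm, Nat.cast_sum]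
    refine Finset.sum_congr rfl fun μ _ => ?_
    have := omega_blockElem b μ
    rw [omega, div_eq_iff (IsIrr.one_ne_zero μ.2)] at this
    simp only [mul_left_comm _ (m μ : ℂ), ← Finset.mul_sum]
    rw [show ∑ n : N, (blockElem b).coeff n * (μ : N → ℂ) n = chiLin (μ : N → ℂ) (blockElem b) from rfl,
      this, hd1]
    split_ifs <;> simp
  rw [h2, h1, Nat.cast_inj] at h
  by_contra hmem
  have hlt : ∑ μ : Cfsg.IrrCharacter N, (if μ ∈ b then m μ * d μ else 0) <
      ∑ μ : Cfsg.IrrCharacter N, m μ * d μ := by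
    refine Finset.sum_lt_sum (fun i _ => by split_ifs <;> simp) ⟨μ, Finset.mem_univ _, ?_⟩
    rw [if_neg hmem]
    refine Nat.mul_pos (Nat.pos_of_ne_zero fun h0 => hμ ?_) (hd μ)
    rw [hm, h0, Nat.cast_zero]
  omega

include hs in
/-- Characters over `b` induce orthogonally from the stabiliser. -/
theorem classInner_indFun {ψ ψ' : Cfsg.IrrCharacter T} (hc : Covers N hNT (b := b) (ψ : T → ℂ))
    (hc' : Covers N hNT (b := b) (ψ' : T → ℂ)) :
    Cfsg.classInner (Cfsg.indFun T (ψ : T → ℂ)) (Cfsg.indFun T (ψ' : T → ℂ)) =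
      Cfsg.classInner (ψ : T → ℂ) (ψ' : T → ℂ) := by
  classical
  rw [CharInduce.classInner_indFun_left T _ _ (CharInduce.isClassFunction_indFun T _)]
  have hT0 := CharInduce.card_ne_zero_complex T
  have key : ∀ x : G, (∑ t : T, (ψ : T → ℂ) t *
      conj (Cfsg.extendByZero T (ψ' : T → ℂ) (x⁻¹ * t * x))) =
      if x ∈ T then (Nat.card T : ℂ) * Cfsg.classInner (ψ : T → ℂ) (ψ' : T → ℂ) else 0 := by
    intro x
    split_ifs with hx
    · rw [classInner_def, ← mul_assoc, mul_inv_cancel₀ hT0, one_mul]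
      refine Finset.sum_congr rfl fun t _ => ?_
      rw [show x⁻¹ * (t : G) * x = ((⟨x, hx⟩⁻¹ * t * ⟨x, hx⟩ : T) : G) from rfl,
        CharInduce.extendByZero_coe]
      have := IsIrr.isClassFunction ψ'.2 t ((⟨x, hx⟩ : T)⁻¹)
      rw [inv_inv] at this
      rw [this]
    · let D : Subgroup T := T.comap ((MulAut.conj x⁻¹).toMonoidHom.comp T.subtype)
      haveI : Fintype D := Fintype.ofFinite _
      have hD : ∀ t : D, x⁻¹ * ((t : T) : G) * x ∈ T := fun t => by
        have h : (MulAut.conj x⁻¹) ((t : T) : G) ∈ T := t.2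
        simpa [MulAut.conj_apply] using h
      let f : D →* T := MonoidHom.mk' (fun t => ⟨x⁻¹ * ((t : T) : G) * x, hD t⟩) fun s t =>
        Subtype.ext (by simp [mul_assoc])
      let j : N →* D := MonoidHom.mk' (fun n => ⟨Subgroup.inclusion hNT n, by
        show (MulAut.conj x⁻¹) (n : G) ∈ T
        exact hNT (hN.conj_mem _ n.2 x⁻¹)⟩) fun s t => rfl
      have hrest : ∀ F : T → ℂ, (∀ t : T, t ∉ D → F t = 0) → ∑ t : T, F t = ∑ t : D, F t := by
        intro F hF
        symm
        exact Fintype.sum_of_injective (Subtype.val : D → T) Subtype.val_injective _ _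
          (fun t ht => hF t fun h => ht ⟨⟨t, h⟩, rfl⟩) (fun _ => rfl)
      rw [hrest _ fun t ht => by
        rw [CharInduce.extendByZero_of_not_mem, map_zero, mul_zero]
        intro h
        exact ht (show (MulAut.conj x⁻¹) (t : G) ∈ T by simpa [MulAut.conj_apply] using h)]
      have hzero : Cfsg.classInner (fun t : D => (ψ : T → ℂ) t) (fun t : D => (ψ' : T → ℂ) (f t)) = 0 := by
        refine classInner_eq_zero_of_comp j (CharInduce.IsChar.comp (IsIrr.isCharacter ψ.2) D.subtype)
          (CharInduce.IsChar.comp (IsIrr.isCharacter ψ'.2) f) ?_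
        obtain ⟨m, hm, hψ⟩ := IsChar.exists_nat_mult
          (CharInduce.IsChar.comp (IsIrr.isCharacter ψ.2) (Subgroup.inclusion hNT))
        obtain ⟨k, hk, hψ'⟩ := IsChar.exists_nat_mult
          (CharInduce.IsChar.comp (IsIrr.isCharacter ψ'.2) (Subgroup.inclusion hNT))
        have e2 : (fun n : N => (ψ' : T → ℂ) (f (j n))) =
            ∑ μ : Cfsg.IrrCharacter N, (k μ : ℂ) • (conjIrr N μ x⁻¹ : N → ℂ) := by
          funext n
          have := congrFun hψ' (MulAut.conjNormal x⁻¹ n)
          rw [show f (j n) = Subgroup.inclusion hNT (MulAut.conjNormal x⁻¹ n) from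
            Subtype.ext (by simp [f, j, MulAut.conjNormal_apply]; rfl), this, Finset.sum_apply,
            Finset.sum_apply]
          refine Finset.sum_congr rfl fun μ _ => ?_
          simp only [Pi.smul_apply, conjIrr, CharInduce.conjFun]
          congr 2
        show Cfsg.classInner (fun n : N => (ψ : T → ℂ) (Subgroup.inclusion hNT n))
          (fun n : N => (ψ' : T → ℂ) (f (j n))) = 0
        rw [e2, hψ, classInner_sum_left]
        refine Finset.sum_eq_zero fun μ _ => ?_
        rw [classInner_sum_right]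
        refine Finset.sum_eq_zero fun ν _ => ?_
        rw [classInner_smul_left, classInner_smul_right, classInner_irrCharacter]
        by_cases h1 : m μ = 0
        · simp [h1]
        by_cases h2 : k ν = 0
        · simp [h2]
        rw [if_neg, mul_zero, mul_zero]
        intro he
        have hμ : μ ∈ b := mem_of_covers N hs hNT hc (by rw [hm]; exact_mod_cast h1)
        have hν : ν ∈ b := mem_of_covers N hs hNT hc' (by rw [hk]; exact_mod_cast h2)
        exact hs.off x⁻¹ (fun h => hx (by simpa using T.inv_mem h)) ν hν (he ▸ hμ)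
      rw [classInner_def, mul_eq_zero, or_iff_right (by simp)] at hzero
      rw [← hzero]
      refine Finset.sum_congr rfl fun t _ => ?_
      rw [CharInduce.extendByZero_of_mem _ (hD t)]
      rfl
  conv_lhs => rw [classInner_def]
  simp only [CharInduce.indFun_apply, map_mul, map_inv₀, Complex.conj_natCast, map_sum,
    Finset.mul_sum]
  rw [Finset.sum_comm]
  have : ∀ x : G, (∑ t : T, (Nat.card T : ℂ)⁻¹ * ((ψ : T → ℂ) t * ((Nat.card T : ℂ)⁻¹ *
      conj (Cfsg.extendByZero T (ψ' : T → ℂ) (x⁻¹ * t * x))))) =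
      if x ∈ T then (Nat.card T : ℂ)⁻¹ * Cfsg.classInner (ψ : T → ℂ) (ψ' : T → ℂ) else 0 := by
    intro x
    have e : ∀ t : T, (Nat.card T : ℂ)⁻¹ * ((ψ : T → ℂ) t * ((Nat.card T : ℂ)⁻¹ *
        conj (Cfsg.extendByZero T (ψ' : T → ℂ) (x⁻¹ * t * x)))) =
        (Nat.card T : ℂ)⁻¹ * (Nat.card T : ℂ)⁻¹ *
          ((ψ : T → ℂ) t * conj (Cfsg.extendByZero T (ψ' : T → ℂ) (x⁻¹ * t * x))) := fun t => by ring
    simp only [e, ← Finset.mul_sum, key]
    split_ifs
    · field_simp
    · simp
  simp only [this]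
  rw [← Finset.sum_filter, Finset.sum_const, ← Fintype.card_subtype, ← Nat.card_eq_fintype_card,
    nsmul_eq_mul]
  change (Nat.card T : ℂ) * ((Nat.card T : ℂ)⁻¹ * _) = _
  rw [← mul_assoc, mul_inv_cancel₀ hT0, one_mul]

end Block

end Cfsg.Agent.H1
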