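import Cfsg.Agent.H1.FongReynolds

/-!
# Fong-Reynolds: passing from the stabiliser to the whole group
-/

open scoped ComplexConjugate
open MonoidAlgebra

namespace Cfsg.Agent.H1

open Cfsg.Agent.CharBasic Cfsg.Agent.BlockBasic

universe u v

/-- Multiplicities of a composite decomposition. -/
theorem classInner_comp_eq_sum {T : Type u} [Group T] [Fintype T] {N : Type v} [Group N] [Fintype N]
    (j : N →* T) {a : T → ℂ} (ha : Cfsg.IsClassFunction T a) (θ : N → ℂ) :
    Cfsg.classInner (fun n => a (j n)) θ = ∑ φ : Cfsg.IrrCharacter T,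
      Cfsg.classInner a (φ : T → ℂ) * Cfsg.classInner (fun n => (φ : T → ℂ) (j n)) θ := by
  have e : (fun n => a (j n)) = ∑ φ : Cfsg.IrrCharacter T,
      Cfsg.classInner a (φ : T → ℂ) • fun n => (φ : T → ℂ) (j n) := by
    funext n
    conv_lhs => rw [classFunction_expansion ha]
    simp [Finset.sum_apply]
  rw [e, classInner_sum_left]
  simp only [classInner_smul_left]

theorem classInner_comp_ne_zero {T : Type u} [Group T] [Fintype T] {N : Type v} [Group N] [Fintype N]
    (j : N →* T) {a : T → ℂ} (ha : Cfsg.IsCharacter T a) {ψ : Cfsg.IrrCharacter T}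
    {θ : Cfsg.IrrCharacter N} (h1 : Cfsg.classInner a (ψ : T → ℂ) ≠ 0)
    (h2 : Cfsg.classInner (fun n => (ψ : T → ℂ) (j n)) (θ : N → ℂ) ≠ 0) :
    Cfsg.classInner (fun n => a (j n)) (θ : N → ℂ) ≠ 0 := by
  rw [classInner_comp_eq_sum j (IsChar.isClassFunction ha)]
  choose m hm using fun φ : Cfsg.IrrCharacter T => classInner_isChar_nat ha (IsIrr.isCharacter φ.2)
  choose k hk using fun φ : Cfsg.IrrCharacter T =>
    classInner_isChar_nat (CharInduce.IsChar.comp (IsIrr.isCharacter φ.2) j) (IsIrr.isCharacter θ.2)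
  rw [hm, Nat.cast_ne_zero] at h1
  rw [hk, Nat.cast_ne_zero] at h2
  simp only [hm, hk, ← Nat.cast_mul, ← Nat.cast_sum, Nat.cast_ne_zero]
  rw [Ne, Finset.sum_eq_zero_iff]
  exact fun h => mul_ne_zero h1 h2 (h ψ (Finset.mem_univ _))

variable {G : Type u} [Group G] [Fintype G]

/-- The central character of an induced function is the induced central character. -/
theorem centralChar_indFun (T : Subgroup G) [Fintype T] (ψ : T → ℂ) (g : G) :
    Cfsg.centralChar (Cfsg.indFun T ψ) g = Cfsg.inducedCentralChar T ψ g := by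
  classical
  have hC : ∀ y : G, (Finset.univ.filter fun x : G => x⁻¹ * g * x = y).card =
      if IsConj g y then Nat.card (Subgroup.centralizer ({g} : Set G)) else 0 := by
    intro y
    split_ifs with h
    · obtain ⟨a, ha⟩ := isConj_iff.1 h
      rw [← card_conj_eq_centralizer g, Nat.card_eq_fintype_card, Fintype.card_subtype]
      refine Finset.card_equiv (Equiv.mulRight a) fun x => ?_
      simp only [Finset.mem_filter, Finset.mem_univ, true_and, Equiv.coe_mulRight]
      rw [← ha]
      constructor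
      · intro e
        calc x * a * g * (x * a)⁻¹ = x * (a * g * a⁻¹) * x⁻¹ := by group
          _ = g := by rw [← e]; group
      · intro e
        calc x⁻¹ * g * x = x⁻¹ * (x * a * g * (x * a)⁻¹) * x := by rw [e]
          _ = _ := by group
    · rw [Finset.card_eq_zero, Finset.filter_eq_empty_iff]
      intro x _ e
      exact h (isConj_iff.2 ⟨x⁻¹, by rw [inv_inv]; exact e⟩)
  have hsum : ∑ x : G, Cfsg.extendByZero T ψ (x⁻¹ * g * x) =
      (Nat.card (Subgroup.centralizer ({g} : Set G)) : ℂ) *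
        ∑ t : T, if IsConj g (t : G) then ψ t else 0 := by
    rw [← Finset.sum_fiberwise Finset.univ (fun x : G => x⁻¹ * g * x)]
    have e : ∀ y : G, ∑ x ∈ Finset.univ.filter (fun x : G => x⁻¹ * g * x = y),
        Cfsg.extendByZero T ψ (x⁻¹ * g * x) = Cfsg.extendByZero T ψ y *
          ((Nat.card (Subgroup.centralizer ({g} : Set G)) : ℂ) * if IsConj g y then 1 else 0) := by
      intro y
      rw [Finset.sum_congr rfl (fun x hx => by rw [(Finset.mem_filter.1 hx).2]), Finset.sum_const,
        hC, nsmul_eq_mul]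
      split_ifs <;> simp [mul_comm]
    rw [Finset.sum_congr rfl fun y _ => e y, CharInduce.sum_extendByZero_mul, Finset.mul_sum]
    refine Finset.sum_congr rfl fun t _ => ?_
    split_ifs <;> simp [mul_comm]
  rw [Cfsg.centralChar, CharInduce.indFun_one, CharInduce.indFun_apply, hsum,
    Cfsg.inducedCentralChar, finsum_mem_def, finsum_eq_sum_of_fintype, Finset.mul_sum,
    Finset.mul_sum, Finset.mul_sum, Finset.sum_div]
  refine Finset.sum_congr rfl fun t _ => ?_
  rw [Set.indicator_apply]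
  simp only [Set.mem_setOf_eq]
  split_ifs with h
  · rcases eq_or_ne (ψ 1) 0 with h0 | h0
    · simp [h0]
    have hT := CharInduce.card_ne_zero_complex T
    have hi : (T.index : ℂ) ≠ 0 := by simp [Subgroup.index_ne_zero_of_finite]
    have hc : ((Subgroup.centralizer ({g} : Set G)).index : ℂ) *
        (Nat.card (Subgroup.centralizer ({g} : Set G)) : ℂ) = (Nat.card T : ℂ) * (T.index : ℂ) := by
      exact_mod_cast (Subgroup.index_mul_card _).trans T.card_mul_index.symm
    field_simp
    linear_combination (ψ t) * hc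
  · simp

section Lift

variable {N : Subgroup G} [hN : N.Normal] [Fintype N] {T : Subgroup G} [Fintype T]
  {b : Set (Cfsg.IrrCharacter N)} (hs : IsBlockStab N T b) (hNT : N ≤ T)
  {p : ℕ} {M : Ideal Cfsg.AlgInt} (hM : Cfsg.IsPModular p M) (hb : Cfsg.IsPBlock M b)

/-- Lying over `b`, in the whole group. -/
def CoversG (b : Set (Cfsg.IrrCharacter N)) (χ : G → ℂ) : Prop :=
  ∃ θ ∈ b, Cfsg.classInner (fun n : N => χ n) (θ : N → ℂ) ≠ 0

include hs in
theorem isIrr_indFun {ψ : Cfsg.IrrCharacter T} (hc : Covers N hNT (b := b) (ψ : T → ℂ)) :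
    Cfsg.IsIrrCharacter G (Cfsg.indFun T (ψ : T → ℂ)) :=
  CharBasic.isIrr_of_norm_one (CharInduce.IsChar.ind T (IsIrr.isCharacter ψ.2))
    (by rw [classInner_indFun N hs hNT hc hc, classInner_irr_self ψ.2])

/-- The induced irreducible character. -/
noncomputable def indIrr {ψ : Cfsg.IrrCharacter T} (hc : Covers N hNT (b := b) (ψ : T → ℂ))
    (hs : IsBlockStab N T b) : Cfsg.IrrCharacter G :=
  ⟨_, isIrr_indFun hs hNT hc⟩

include hs in
/-- Among the characters over `b`, only `ψ` occurs in the restriction of `ψ` induced. -/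
theorem classInner_res_indFun {ψ φ : Cfsg.IrrCharacter T} (hc : Covers N hNT (b := b) (ψ : T → ℂ))
    (hφ : Covers N hNT (b := b) (φ : T → ℂ)) :
    Cfsg.classInner (fun t : T => Cfsg.indFun T (ψ : T → ℂ) t) (φ : T → ℂ) =
      Cfsg.classInner (ψ : T → ℂ) (φ : T → ℂ) := by
  rw [← CharInduce.classInner_indFun_right T (φ : T → ℂ) _ (CharInduce.isClassFunction_indFun T _),
    classInner_indFun N hs hNT hc hφ]

include hs in
theorem coversG_indFun {ψ : Cfsg.IrrCharacter T} (hc : Covers N hNT (b := b) (ψ : T → ℂ)) :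
    CoversG b (Cfsg.indFun T (ψ : T → ℂ)) := by
  obtain ⟨θ, hθ, hne⟩ := hc
  refine ⟨θ, hθ, ?_⟩
  exact classInner_comp_ne_zero (Subgroup.inclusion hNT)
    (a := fun t : T => Cfsg.indFun T (ψ : T → ℂ) t)
    (CharInduce.IsChar.comp (CharInduce.IsChar.ind T (IsIrr.isCharacter ψ.2)) T.subtype)
    (by rw [classInner_res_indFun hs hNT ⟨θ, hθ, hne⟩ ⟨θ, hθ, hne⟩, classInner_irr_self ψ.2]
        exact one_ne_zero) hne

include hs in
theorem exists_of_coversG {χ : Cfsg.IrrCharacter G} (hc : CoversG b (χ : G → ℂ)) :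
    ∃ (ψ : Cfsg.IrrCharacter T) (_ : Covers N hNT (b := b) (ψ : T → ℂ)),
      (χ : G → ℂ) = Cfsg.indFun T (ψ : T → ℂ) := by
  obtain ⟨θ, hθ, hne⟩ := hc
  have h := classInner_comp_eq_sum (Subgroup.inclusion hNT) (a := fun t : T => (χ : G → ℂ) t)
    (IsChar.isClassFunction (CharInduce.IsChar.comp (IsIrr.isCharacter χ.2) T.subtype)) (θ : N → ℂ)
  obtain ⟨ψ, -, hψ⟩ := Finset.exists_ne_zero_of_sum_ne_zero (h ▸ hne)
  rw [mul_ne_zero_iff] at hψ
  have hc : Covers N hNT (b := b) (ψ : T → ℂ) := ⟨θ, hθ, hψ.2⟩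
  refine ⟨ψ, hc, ?_⟩
  by_contra hne'
  apply hψ.1
  rw [← CharInduce.classInner_indFun_right T (ψ : T → ℂ) _ (IsIrr.isClassFunction χ.2),
    classInner_irr_of_ne χ.2 (isIrr_indFun hs hNT hc) hne']

/-- The lift of a central element of the group algebra of `T`. -/
noncomputable def lift (z : MonoidAlgebra ℂ T) : MonoidAlgebra ℂ G :=
  ofFun (Cfsg.indFun T fun t : T => (z * bElem N hNT (b := b)).coeff t)

theorem isCentralElt_lift (z : MonoidAlgebra ℂ T) : IsCentralElt (lift hNT (b := b) z) :=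
  isCentralElt_ofFun (CharInduce.isClassFunction_indFun T _)

include hs hM hb in
theorem isIntElt_lift {z : MonoidAlgebra ℂ T} (hz : IsCentralElt z) (hzi : IsIntElt M z) :
    IsIntElt M (lift hNT (b := b) z) := by
  classical
  intro g
  set f : T → ℂ := fun t => (z * bElem N hNT (b := b)).coeff t with hf
  have hfc : Cfsg.IsClassFunction T f := hz.mul (isCentralElt_bElem N hs hNT)
  have hfi : ∀ t, Cfsg.MemLocalRing M (f t) := IsIntElt.mul hM hzi (isIntElt_bElem N hNT hM hb)
  rw [lift, coeff_ofFun]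
  haveI : Fintype (G ⧸ T) := Fintype.ofFinite _
  have hconst : ∀ x : G, Cfsg.extendByZero T f (x⁻¹ * g * x) =
      Cfsg.extendByZero T f ((x : G ⧸ T).out⁻¹ * g * (x : G ⧸ T).out) := by
    intro x
    obtain ⟨h, hh⟩ := QuotientGroup.mk_out_eq_mul T x
    rw [hh, show (x * (h : G))⁻¹ * g * (x * h) = (h : G)⁻¹ * (x⁻¹ * g * x) * ((h : G)⁻¹)⁻¹ by
      simp [mul_assoc], CharInduce.extendByZero_conj hfc (T.inv_mem h.2)]
  have hfib : ∀ q : G ⧸ T, (Finset.univ.filter fun x : G => (x : G ⧸ T) = q).card = Nat.card T := by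
    intro q
    rw [Nat.card_eq_fintype_card, ← Finset.card_univ]
    symm
    refine Finset.card_bij' (fun t _ => q.out * (t : G))
      (fun x hx => ⟨q.out⁻¹ * x, ?_⟩) ?_ ?_ ?_ ?_
    · have h := (Finset.mem_filter.1 hx).2
      rw [← q.out_eq] at h
      exact QuotientGroup.eq.1 h.symm
    · intro t _
      simp
    · intro x _
      simp
    · intro t _
      simp
    · intro x _
      simp
  have hval : Cfsg.indFun T f g =
      ∑ q : G ⧸ T, Cfsg.extendByZero T f (q.out⁻¹ * g * q.out) := by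
    rw [CharInduce.indFun_apply, ← Finset.sum_fiberwise Finset.univ (fun x : G => (x : G ⧸ T)),
      Finset.mul_sum]
    refine Finset.sum_congr rfl fun q _ => ?_
    rw [Finset.sum_congr rfl (fun x hx => by rw [hconst x, (Finset.mem_filter.1 hx).2]),
      Finset.sum_const, hfib, nsmul_eq_mul, ← mul_assoc,
      inv_mul_cancel₀ (CharInduce.card_ne_zero_complex T), one_mul]
  rw [hval]
  refine (locRing hM).sum_mem fun q _ => ?_
  by_cases hq : q.out⁻¹ * g * q.out ∈ T
  · rw [CharInduce.extendByZero_of_mem _ hq]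
    exact hfi _
  · rw [CharInduce.extendByZero_of_not_mem _ hq]
    exact (locRing hM).zero_mem

include hs in
theorem chiLin_lift {χ : G → ℂ} (hχ : Cfsg.IsClassFunction G χ) {z : MonoidAlgebra ℂ T}
    (hz : IsCentralElt z) :
    chiLin χ (lift hNT (b := b) z) = (T.index : ℂ) * ∑ φ : Cfsg.IrrCharacter T,
      Cfsg.classInner (fun t : T => χ t) (φ : T → ℂ) *
        ((φ : T → ℂ) 1 * (omega (φ : T → ℂ) z * omega (φ : T → ℂ) (bElem N hNT (b := b)))) := by
  set f : T → ℂ := fun t => (z * bElem N hNT (b := b)).coeff t with hf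
  have h1 := CharInduce.classInner_indFun_left T f (fun g => conj (χ g))
    (fun g x => by simp [hχ g x])
  simp only [classInner_def, Complex.conj_conj] at h1
  rw [inv_mul_eq_iff_eq_mul₀ (CharInduce.card_ne_zero_complex G)] at h1
  have h2 : chiLin χ (lift hNT (b := b) z) = (T.index : ℂ) * chiLin (fun t : T => χ t)
      (z * bElem N hNT (b := b)) := by
    rw [chiLin, lift]
    simp only [coeff_ofFun]
    rw [h1, ← T.card_mul_index, Nat.cast_mul]
    have := CharInduce.card_ne_zero_complex T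
    field_simp
    rfl
  have h3 : (fun t : T => χ t) = ∑ φ : Cfsg.IrrCharacter T,
      Cfsg.classInner (fun t : T => χ t) (φ : T → ℂ) • (φ : T → ℂ) :=
    classFunction_expansion fun t x => hχ t x
  rw [h2]
  congr 1
  have key : ∀ φ : Cfsg.IrrCharacter T, chiLin (φ : T → ℂ) (z * bElem N hNT (b := b)) =
      (φ : T → ℂ) 1 * (omega (φ : T → ℂ) z * omega (φ : T → ℂ) (bElem N hNT (b := b))) := by
    intro φ
    rw [← omega_mul φ.2 hz, omega, mul_div_cancel₀ _ (IsIrr.one_ne_zero φ.2)]
  rw [h3]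
  simp only [← key, chiLin, Finset.sum_apply, Pi.smul_apply, smul_eq_mul, Finset.mul_sum]
  rw [Finset.sum_comm]
  refine Finset.sum_congr rfl fun φ _ => ?_
  rw [← h3]
  exact Finset.sum_congr rfl fun t _ => by ring

include hs in
theorem omega_lift {ψ : Cfsg.IrrCharacter T} (hc : Covers N hNT (b := b) (ψ : T → ℂ))
    {z : MonoidAlgebra ℂ T} (hz : IsCentralElt z) :
    omega (Cfsg.indFun T (ψ : T → ℂ)) (lift hNT (b := b) z) = omega (ψ : T → ℂ) z := by
  classical
  rw [omega, chiLin_lift hs hNT (CharInduce.isClassFunction_indFun T _) hz,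
    CharInduce.indFun_one, Finset.sum_eq_single ψ]
  · rw [classInner_res_indFun hs hNT hc hc, classInner_irr_self ψ.2, omega_bElem N hs hNT,
      if_pos hc]
    have hi : (T.index : ℂ) ≠ 0 := by simp [Subgroup.index_ne_zero_of_finite]
    have := IsIrr.one_ne_zero ψ.2
    field_simp
  · intro φ _ hne
    rw [omega_bElem N hs hNT]
    split_ifs with hφ
    · rw [classInner_res_indFun hs hNT hc hφ, classInner_irr_of_ne ψ.2 φ.2
        (fun h => hne (Subtype.ext h.symm)), zero_mul]
    · ring
  · simp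

include hs hNT hM hb in
/-- Blocks of `G` do not separate characters covering `b` from others. -/
theorem coversG_of_sameBlock {χ χ' : Cfsg.IrrCharacter G} (hc : CoversG b (χ : G → ℂ))
    (h : Cfsg.SameBlock M (χ : G → ℂ) (χ' : G → ℂ)) : CoversG b (χ' : G → ℂ) := by
  classical
  by_contra hc'
  obtain ⟨ψ, hψ, hχ⟩ := exists_of_coversG hs hNT hc
  have hh := omega_congr hM (IsIrr.isClassFunction χ.2) (IsIrr.isClassFunction χ'.2) h
    (isCentralElt_lift hNT (b := b) (1 : MonoidAlgebra ℂ T))
    (isIntElt_lift hs hNT hM hb IsCentralElt.one (isIntElt_one hM))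
  have h0 : omega (χ' : G → ℂ) (lift hNT (b := b) 1) = 0 := by
    rw [omega, chiLin_lift hs hNT (IsIrr.isClassFunction χ'.2) IsCentralElt.one]
    rw [Finset.sum_eq_zero, mul_zero, zero_div]
    intro φ _
    rw [omega_bElem N hs hNT]
    split_ifs with hφ
    · obtain ⟨θ, hθ, hne⟩ := hφ
      by_cases h2 : Cfsg.classInner (fun t : T => (χ' : G → ℂ) t) (φ : T → ℂ) = 0
      · rw [h2, zero_mul]
      · exact absurd ⟨θ, hθ, classInner_comp_ne_zero (Subgroup.inclusion hNT)
          (a := fun t : T => (χ' : G → ℂ) t)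
          (CharInduce.IsChar.comp (IsIrr.isCharacter χ'.2) T.subtype) h2 hne⟩ hc'
    · ring
  rw [h0, hχ, omega_lift hs hNT hψ IsCentralElt.one, omega_one ψ.2, sub_zero] at hh
  exact not_memLocalIdeal_one hM hh

include hs hM hb in
theorem covers_of_sameBlock {ψ ψ' : Cfsg.IrrCharacter T} (hc : Covers N hNT (b := b) (ψ : T → ℂ))
    (h : Cfsg.SameBlock M (ψ : T → ℂ) (ψ' : T → ℂ)) : Covers N hNT (b := b) (ψ' : T → ℂ) := by
  classical
  by_contra hc'
  have hh := omega_congr hM (IsIrr.isClassFunction ψ.2) (IsIrr.isClassFunction ψ'.2) h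
    (isCentralElt_bElem N hs hNT) (isIntElt_bElem N hNT hM hb)
  rw [omega_bElem N hs hNT, omega_bElem N hs hNT, if_pos hc, if_neg hc', sub_zero] at hh
  exact not_memLocalIdeal_one hM hh

include hs hM hb in
theorem sameBlock_iff_indFun {ψ ψ' : Cfsg.IrrCharacter T}
    (hc : Covers N hNT (b := b) (ψ : T → ℂ)) (hc' : Covers N hNT (b := b) (ψ' : T → ℂ)) :
    Cfsg.SameBlock M (Cfsg.indFun T (ψ : T → ℂ)) (Cfsg.indFun T (ψ' : T → ℂ)) ↔
      Cfsg.SameBlock M (ψ : T → ℂ) (ψ' : T → ℂ) := by
  classical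
  constructor
  · intro h
    rw [sameBlock_iff_omega hM]
    intro z hz hzi
    have hh := omega_congr hM (CharInduce.isClassFunction_indFun T _)
      (CharInduce.isClassFunction_indFun T _) h (isCentralElt_lift hNT (b := b) z)
      (isIntElt_lift hs hNT hM hb hz hzi)
    rwa [omega_lift hs hNT hc hz, omega_lift hs hNT hc' hz] at hh
  · intro h g
    let zf : T → ℂ := fun t => if IsConj g (t : G) then 1 else 0
    have hzc : Cfsg.IsClassFunction T zf := fun t x => by
      have h1 : IsConj (t : G) ((x * t * x⁻¹ : T) : G) := isConj_iff.2 ⟨x, by simp⟩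
      have h2 : IsConj g ((x * t * x⁻¹ : T) : G) ↔ IsConj g (t : G) :=
        ⟨fun e => e.trans h1.symm, fun e => e.trans h1⟩
      simp only [zf, h2]
    have hzi : IsIntElt M (ofFun zf) := fun t => by
      rw [coeff_ofFun]
      simp only [zf]
      split_ifs
      · simpa using memLocalRing_natCast hM 1
      · simpa using memLocalRing_natCast hM 0
    have key : ∀ φ : Cfsg.IrrCharacter T, Cfsg.inducedCentralChar T (φ : T → ℂ) g =
        omega (φ : T → ℂ) (ofFun zf) := by
      intro φ
      rw [omega, chiLin, Finset.sum_div, Cfsg.inducedCentralChar, finsum_mem_def,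
        finsum_eq_sum_of_fintype]
      refine Finset.sum_congr rfl fun t _ => ?_
      rw [Set.indicator_apply, coeff_ofFun]
      simp only [Set.mem_setOf_eq, zf]
      split_ifs <;> simp
    rw [centralChar_indFun, centralChar_indFun, key, key]
    exact omega_congr hM (IsIrr.isClassFunction ψ.2) (IsIrr.isClassFunction ψ'.2) h
      (isCentralElt_ofFun hzc) hzi

end Lift

end Cfsg.Agent.H1
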