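import Mathlib.GroupTheory.Solvable
import Mathlib.GroupTheory.SpecificGroups.Cyclic
import Mathlib.GroupTheory.QuotientGroup.Basic
import Mathlib.GroupTheory.Index
import Mathlib.Order.Atoms
import Mathlib.Order.Atoms.Finite
import Mathlib.Data.SetLike.Fintype
import Mathlib.Tactic.Group
import Mathlib.Tactic.Linarith
import Mathlib.Tactic.Ring

/-!
# Solubilisers

If two-generated subgroups being solvable forces solvability, then a finite group all of
whose solubilisers are subgroups is solvable.
-/

set_option autoImplicit false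
set_option linter.style.haveILetI false

namespace Cfsg.Agent.H1.Solubilizer

universe u

open Subgroup

variable {G : Type u} [Group G]

/-- The solubiliser of every element is a subgroup. -/
def SolSubgroups (G : Type u) [Group G] : Prop :=
  ∀ x : G, ∃ H : Subgroup G,
    (H : Set G) = {y : G | Group.IsSolvable ↥(Subgroup.closure ({x, y} : Set G))}

theorem map_closure_pair {H : Type u} [Group H] (f : G →* H) (a b : G) :
    (closure ({a, b} : Set G)).map f = closure ({f a, f b} : Set H) := by
  rw [MonoidHom.map_closure, Set.image_pair]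

theorem solvable_map {H : Type u} [Group H] (f : G →* H) (K : Subgroup G)
    (h : Group.IsSolvable ↥K) : Group.IsSolvable ↥(K.map f) :=
  Group.isSolvable_of_surjective (f.subgroupMap_surjective K)

theorem solvable_le {A B : Subgroup G} (hAB : A ≤ B) (h : Group.IsSolvable ↥B) :
    Group.IsSolvable ↥A :=
  Group.isSolvable_of_isSolvable_injective (f := Subgroup.inclusion hAB) (Subgroup.inclusion_injective hAB)

theorem solvable_extension (N : Subgroup G) [N.Normal] (hN : Group.IsSolvable ↥N)
    (hQ : Group.IsSolvable (G ⧸ N)) : Group.IsSolvable G :=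
  Group.isSolvable_of_ker_le_range N.subtype (QuotientGroup.mk' N)
    (by rw [QuotientGroup.ker_mk', Subgroup.range_subtype])

theorem solvable_of_map {H : Type u} [Group H] (f : G →* H) (K N : Subgroup G)
    (hker : f.ker ≤ N) (hN : Group.IsSolvable ↥N) (h : Group.IsSolvable ↥(K.map f)) :
    Group.IsSolvable ↥K := by
  let g : ↥K →* ↥(K.map f) := f.subgroupMap K
  haveI := h
  haveI := solvable_le (inf_le_left : N ⊓ K ≤ N) hN
  refine Group.isSolvable_of_ker_le_range (Subgroup.inclusion (inf_le_right : N ⊓ K ≤ K)) g ?_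
  intro k hk
  have hk1 : f (k : G) = 1 := congrArg Subtype.val (MonoidHom.mem_ker.mp hk)
  exact ⟨⟨k, hker (MonoidHom.mem_ker.mpr hk1), k.2⟩, rfl⟩

theorem solSubgroups_subgroup (hG : SolSubgroups G) (K : Subgroup G) : SolSubgroups ↥K := by
  intro x
  obtain ⟨H, hH⟩ := hG x
  refine ⟨H.comap K.subtype, Set.ext fun y => ?_⟩
  have e := map_closure_pair K.subtype x y
  have hy : (y : G) ∈ H ↔ Group.IsSolvable ↥(closure ({(x : G), (y : G)} : Set G)) :=
    Set.ext_iff.mp hH y
  show (y : G) ∈ H ↔ _
  rw [hy, show ({(x : G), (y : G)} : Set G) = {K.subtype x, K.subtype y} from rfl, ← e]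
  exact ⟨fun h => solvable_of_map K.subtype _ ⊥ (by simp) inferInstance h,
    fun h => solvable_map _ _ h⟩

theorem solSubgroups_quotient (hG : SolSubgroups G) (N : Subgroup G) [N.Normal]
    (hN : Group.IsSolvable ↥N) : SolSubgroups (G ⧸ N) := by
  intro xb
  obtain ⟨x, rfl⟩ := QuotientGroup.mk'_surjective N xb
  obtain ⟨H, hH⟩ := hG x
  have hy : ∀ y, y ∈ H ↔ Group.IsSolvable ↥(closure ({x, y} : Set G)) := Set.ext_iff.mp hH
  refine ⟨H.map (QuotientGroup.mk' N), Set.ext fun yb => ?_⟩
  constructor
  · rintro ⟨y, hyH, rfl⟩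
    show Group.IsSolvable _
    rw [← map_closure_pair]
    exact solvable_map _ _ ((hy y).mp hyH)
  · intro h
    obtain ⟨y, rfl⟩ := QuotientGroup.mk'_surjective N yb
    rw [Set.mem_ofPred_eq, ← map_closure_pair] at h
    exact ⟨y, (hy y).mpr (solvable_of_map _ _ N (by rw [QuotientGroup.ker_mk']) hN h), rfl⟩

/-- Counting: maximal subgroups cannot pairwise intersect trivially, each non-trivial and
self-normalising, unless some non-identity element lies in none. -/
theorem maximal_partition_absurd [Finite G]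
    (hcov : ∀ g : G, g ≠ 1 → ∃ M : Subgroup G, IsCoatom M ∧ g ∈ M)
    (hTI : ∀ M M' : Subgroup G, IsCoatom M → IsCoatom M' → ∀ g ∈ M, g ∈ M' → g ≠ 1 → M = M')
    (hself : ∀ M : Subgroup G, IsCoatom M → M ≠ ⊥ ∧ ∀ c : G, (∀ m ∈ M, c * m * c⁻¹ ∈ M) → c ∈ M)
    (hnt : Nontrivial G) : False := by
  classical
  haveI := Fintype.ofFinite G
  let D : Subgroup G → Type u := fun M => (G ⧸ M) × {m : ↥M // m ≠ 1}
  let f : ∀ M : Subgroup G, D M → {g : G // g ≠ 1} := fun M p =>
    ⟨p.1.out * (p.2.1 : G) * p.1.out⁻¹, fun e => p.2.2 (Subtype.ext (conj_eq_one_iff.mp e))⟩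
  have conjC : ∀ (c : G) (M : Subgroup G), IsCoatom M →
      IsCoatom (M.map (MulAut.conj c).toMonoidHom) :=
    fun c M hM => ((MulAut.conj c).mapSubgroup.isCoatom_iff M).mpr hM
  have key : ∀ M M' : Subgroup G, IsCoatom M → IsCoatom M' → ∀ (p : D M) (p' : D M'),
      f M p = f M' p' → M.map (MulAut.conj p.1.out).toMonoidHom
        = M'.map (MulAut.conj p'.1.out).toMonoidHom := by
    intro M M' hM hM' p p' e
    exact hTI _ _ (conjC _ M hM) (conjC _ M' hM') (f M p).1 ⟨p.2.1, p.2.1.2, rfl⟩
      (by rw [e]; exact ⟨p'.2.1, p'.2.1.2, rfl⟩) (f M p).2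
  have inj : ∀ M, IsCoatom M → Function.Injective (f M) := by
    intro M hM p p' e
    have hmap := key M M hM hM p p' e
    have hc : (p.1.out)⁻¹ * p'.1.out ∈ M := by
      refine (hself M hM).2 _ fun m hm => ?_
      have : p'.1.out * m * p'.1.out⁻¹ ∈ M.map (MulAut.conj p.1.out).toMonoidHom :=
        hmap ▸ ⟨m, hm, rfl⟩
      obtain ⟨m', hm', he⟩ := this
      have he' : p.1.out * m' * p.1.out⁻¹ = p'.1.out * m * p'.1.out⁻¹ := he
      have : p.1.out⁻¹ * p'.1.out * m * (p.1.out⁻¹ * p'.1.out)⁻¹ = m' := by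
        calc _ = p.1.out⁻¹ * (p'.1.out * m * p'.1.out⁻¹) * p.1.out := by group
          _ = m' := by rw [← he']; group
      exact this ▸ hm'
    have h1 : p.1 = p'.1 := by
      rw [← p.1.out_eq', ← p'.1.out_eq']
      exact QuotientGroup.eq.mpr hc
    have h2 := congrArg Subtype.val e
    simp only [f, h1] at h2
    exact Prod.ext h1 (Subtype.ext (Subtype.ext (mul_left_cancel (mul_right_cancel h2))))
  have big : ∀ M, IsCoatom M → Nat.card G ≤ 2 * Nat.card (D M) ∧ Nat.card (D M) + 1 < Nat.card G := by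
    intro M hM
    have hne : 2 ≤ Nat.card M := by
      rcases Nat.lt_or_ge (Nat.card M) 2 with h | h
      · exact absurd (Subgroup.card_le_one_iff_eq_bot M |>.mp (by omega)) (hself M hM).1
      · exact h
    have hidx : 2 ≤ M.index := by
      have h0 : M.index ≠ 0 := Subgroup.index_ne_zero_of_finite
      have h1 : M.index ≠ 1 := fun e => hM.1 (Subgroup.index_eq_one.mp e)
      omega
    have hD : Nat.card (D M) = M.index * (Nat.card M - 1) := by
      show Nat.card ((G ⧸ M) × {m : ↥M // m ≠ 1}) = _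
      rw [Nat.card_prod, ← Subgroup.index_eq_card]
      congr 1
      rw [Nat.card_eq_fintype_card, Nat.card_eq_fintype_card, Fintype.card_subtype_compl,
        Fintype.card_subtype_eq]
    rw [hD, ← M.index_mul_card]
    constructor
    · calc M.index * Nat.card M ≤ M.index * (2 * (Nat.card M - 1)) :=
            Nat.mul_le_mul le_rfl (by omega)
        _ = 2 * (M.index * (Nat.card M - 1)) := by ring
    · have : M.index * Nat.card M = M.index * (Nat.card M - 1) + M.index := by
        rw [← Nat.mul_succ]; congr 1; omega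
      omega
  obtain ⟨g, hg⟩ := exists_ne (1 : G)
  obtain ⟨M, hM, -⟩ := hcov g hg
  have hne : Nat.card {g : G // g ≠ 1} + 1 = Nat.card G := by
    have : 0 < Fintype.card G := Fintype.card_pos
    rw [Nat.card_eq_fintype_card, Nat.card_eq_fintype_card, Fintype.card_subtype_compl,
      Fintype.card_subtype_eq]
    omega
  have hnsurj : ¬ Function.Surjective (f M) := fun hs => by
    have := Nat.card_le_card_of_surjective _ hs
    have := (big M hM).2
    omega
  obtain ⟨⟨x, hx⟩, hout⟩ := not_forall.mp hnsurj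
  obtain ⟨M', hM', hxM'⟩ := hcov x hx
  have disj : ∀ p p', f M p ≠ f M' p' := by
    intro p p' e
    have hmap := key M M' hM hM' p p' e
    -- then `x` would be in a conjugate of `M`
    have hx' : p'.1.out * x * p'.1.out⁻¹ ∈ M.map (MulAut.conj p.1.out).toMonoidHom :=
      hmap ▸ ⟨x, hxM', rfl⟩
    obtain ⟨m, hm, he⟩ := hx'
    have he' : p.1.out * m * p.1.out⁻¹ = p'.1.out * x * p'.1.out⁻¹ := he
    set c := p'.1.out⁻¹ * p.1.out with hc
    obtain ⟨k, hk⟩ := QuotientGroup.mk_out_eq_mul M c
    have hxc : x = c * m * c⁻¹ := by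
      calc x = p'.1.out⁻¹ * (p'.1.out * x * p'.1.out⁻¹) * p'.1.out := by group
        _ = c * m * c⁻¹ := by rw [← he', hc]; group
    let m' : M := ⟨(k : G)⁻¹ * m * k, M.mul_mem (M.mul_mem (M.inv_mem k.2) hm) k.2⟩
    have hq : (QuotientGroup.mk c : G ⧸ M).out * (m' : G) * (QuotientGroup.mk c : G ⧸ M).out⁻¹ = x := by
      rw [hk, hxc]; show c * k * ((k : G)⁻¹ * m * k) * (c * k)⁻¹ = _; group
    have hm' : m' ≠ 1 := fun e1 => hx (by rw [← hq, e1]; simp)
    exact hout ⟨((QuotientGroup.mk c : G ⧸ M), ⟨m', hm'⟩), Subtype.ext hq⟩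
  have hinj : Function.Injective (Sum.elim (f M) (f M')) :=
    (inj M hM).sumElim (inj M' hM') disj
  have := Nat.card_le_card_of_injective _ hinj
  rw [Nat.card_sum] at this
  have := (big M hM).1
  have := (big M' hM').1
  omega

/-- The reduction. -/
theorem solvable_of_solubilizers
    (two : ∀ (K : Type u) [Group K] [Finite K],
      (∀ a b : K, Group.IsSolvable (Subgroup.closure ({a, b} : Set K))) → Group.IsSolvable K)
    (G : Type u) [Group G] [Finite G] (hG : SolSubgroups G) : Group.IsSolvable G := by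
  classical
  induction hn : Nat.card G using Nat.strong_induction_on generalizing G with
  | _ n ih =>
  subst hn
  by_contra hns
  have hsub : ∀ K : Subgroup G, K ≠ ⊤ → Group.IsSolvable ↥K := fun K hK =>
    ih _ (lt_of_le_of_ne (Subgroup.card_le_card_group K)
      (fun e => hK (Subgroup.eq_top_of_card_eq K e))) _ (solSubgroups_subgroup hG K) rfl
  choose H hH using hG
  have mem : ∀ x y, y ∈ H x ↔ Group.IsSolvable ↥(closure ({x, y} : Set G)) :=
    fun x => Set.ext_iff.mp (hH x)
  have memR : ∀ x, x ∈ (⨅ y, H y) ↔ ∀ y, Group.IsSolvable ↥(closure ({x, y} : Set G)) := by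
    intro x
    simp only [Subgroup.mem_iInf, mem]
    exact forall_congr' fun y => by rw [Set.pair_comm]
  set R : Subgroup G := ⨅ y, H y with hRdef
  haveI hRn : R.Normal := ⟨fun x hx c => (memR _).mpr fun y => by
    have h := solvable_map (MulAut.conj c).toMonoidHom _ ((memR x).mp hx (c⁻¹ * y * c))
    rw [map_closure_pair] at h
    convert h using 4 <;> simp [mul_assoc]⟩
  have hR : R ≠ ⊤ := fun e => hns (two G fun a b => (memR a).mp (e ▸ Subgroup.mem_top a) b)
  have hRbot : R = ⊥ := by
    by_contra hb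
    refine hns (solvable_extension R (hsub R hR) (ih _ ?_ _
      (solSubgroups_quotient (fun x => ⟨H x, hH x⟩) R (hsub R hR)) rfl))
    rw [← Subgroup.index_eq_card]
    have h1 := R.index_mul_card
    have h2 : 1 < Nat.card R := by
      rcases Nat.lt_or_ge 1 (Nat.card R) with h | h
      · exact h
      · exact absurd ((Subgroup.card_le_one_iff_eq_bot R).mp h) hb
    have h3 : 0 < R.index := Nat.pos_of_ne_zero Subgroup.index_ne_zero_of_finite
    nlinarith
  have gen : ∀ x : G, x ≠ 1 → ∃ y, closure ({x, y} : Set G) = ⊤ := by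
    intro x hx
    by_contra h
    exact hx (Subgroup.mem_bot.mp (hRbot ▸ (memR x).mpr fun y => hsub _ fun e => h ⟨y, e⟩))
  have hnt : Nontrivial G := by
    rcases subsingleton_or_nontrivial G with h | h
    · exact absurd (Group.isSolvable_of_comm fun a b => Subsingleton.elim _ _) hns
    · exact h
  have noncyc : _root_.IsCyclic G → False := by
    intro h
    refine hns (Group.isSolvable_of_comm fun a b => ?_)
    obtain ⟨g, hg⟩ := h.exists_generator
    obtain ⟨i, rfl⟩ := Subgroup.mem_zpowers_iff.mp (hg a)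
    obtain ⟨j, rfl⟩ := Subgroup.mem_zpowers_iff.mp (hg b)
    rw [← zpow_add, add_comm, zpow_add]
  have hcov : ∀ g : G, g ≠ 1 → ∃ M : Subgroup G, IsCoatom M ∧ g ∈ M := by
    intro g _
    rcases eq_top_or_exists_le_coatom (zpowers g) with h | ⟨M, hM, hle⟩
    · exact absurd ⟨⟨g, fun x => (show x ∈ zpowers g by rw [h]; exact Subgroup.mem_top x)⟩⟩ noncyc
    · exact ⟨M, hM, hle (mem_zpowers g)⟩
  refine maximal_partition_absurd hcov ?_ ?_ hnt
  · intro M M' hM hM' g hg hg' hg1
    by_contra hne
    obtain ⟨y, hy⟩ := gen g hg1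
    have hle : ∀ {N : Subgroup G}, IsCoatom N → g ∈ N → N ≤ H g := fun {N} hN hgN z hz =>
      (mem g z).mpr (solvable_le (closure_le N |>.mpr (Set.insert_subset hgN
        (Set.singleton_subset_iff.mpr hz))) (hsub N hN.1))
    have htop : H g = ⊤ := by
      refine top_le_iff.mp ?_
      rw [← hM.2 (M ⊔ M') (lt_of_le_of_ne le_sup_left fun e =>
        hne (((hM'.le_iff).mp (sup_eq_left.mp e.symm)).resolve_left hM.1))]
      exact sup_le (hle hM hg) (hle hM' hg')
    have := (mem g y).mp (htop ▸ Subgroup.mem_top y)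
    rw [hy] at this
    haveI := this
    exact hns (Group.isSolvable_of_surjective (f := (Subgroup.topEquiv (G := G)).toMonoidHom)
      Subgroup.topEquiv.surjective)
  · intro M hM
    refine ⟨fun e => ?_, fun c hc => ?_⟩
    · obtain ⟨g, hg⟩ := exists_ne (1 : G)
      have h := hM.2 (zpowers g) ((bot_lt_iff_ne_bot.mpr
        (fun h => hg (Subgroup.zpowers_eq_bot.mp h))).trans_le' (le_of_eq e))
      exact noncyc ⟨⟨g, fun x => (show x ∈ zpowers g by rw [h]; exact Subgroup.mem_top x)⟩⟩
    · by_contra hcM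
      have hNtop : Subgroup.normalizer (M : Set G) = ⊤ := by
        refine hM.2 _ (lt_of_le_of_ne Subgroup.le_normalizer fun e => hcM ?_)
        rw [e]
        have hle : M.map (MulAut.conj c).toMonoidHom ≤ M := by
          rintro _ ⟨m, hm, rfl⟩; exact hc m hm
        have heq : M.map (MulAut.conj c).toMonoidHom = M :=
          Subgroup.eq_of_le_of_card_ge hle (by
            rw [Subgroup.card_map_of_injective (MulAut.conj c).injective])
        rw [Subgroup.mem_normalizer_iff]
        refine fun m => ⟨hc m, fun h => ?_⟩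
        rw [← heq] at h
        obtain ⟨m', hm', he⟩ := h
        exact mul_left_cancel (mul_right_cancel (he : c * m' * c⁻¹ = c * m * c⁻¹)) ▸ hm'
      haveI : M.Normal := Subgroup.normalizer_eq_top_iff.mp hNtop
      refine hns (solvable_extension M (hsub M hM.1) ?_)
      obtain ⟨q, hq⟩ : ∃ q : G, q ∉ M := ⟨c, hcM⟩
      have htop : M ⊔ zpowers q = ⊤ := hM.2 _ (lt_of_le_of_ne le_sup_left fun e =>
        hq (e ▸ (le_sup_right : zpowers q ≤ _) (mem_zpowers q)))
      haveI : IsCyclic (G ⧸ M) := ⟨⟨(q : G ⧸ M), fun x => by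
        obtain ⟨z, rfl⟩ := QuotientGroup.mk'_surjective M x
        have h := congrArg (Subgroup.map (QuotientGroup.mk' M)) htop
        rw [Subgroup.map_sup, Subgroup.map_top_of_surjective _ (QuotientGroup.mk'_surjective M),
          QuotientGroup.map_mk'_self, bot_sup_eq, MonoidHom.map_zpowers] at h
        exact (show _ ∈ zpowers ((QuotientGroup.mk' M) q) by rw [h]; exact Subgroup.mem_top _)⟩⟩
      exact Group.isSolvable_of_comm fun a b => (IsCyclic.commGroup (α := G ⧸ M)).mul_comm a b

/-- The equivalence, in the form of the statement on solubilisers. -/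
theorem solvable_iff
    (two : ∀ (K : Type u) [Group K] [Finite K],
      (∀ a b : K, Group.IsSolvable (Subgroup.closure ({a, b} : Set K))) → Group.IsSolvable K)
    (G : Type u) [Group G] [Finite G] :
    Group.IsSolvable G ↔ ∀ x : G, ∃ H : Subgroup G,
      (H : Set G) = {y : G | Group.IsSolvable ↥(Subgroup.closure ({x, y} : Set G))} := by
  refine ⟨fun h x => ⟨⊤, Set.ext fun y => ?_⟩, fun h => solvable_of_solubilizers two G h⟩
  haveI := h
  exact ⟨fun _ => inferInstanceAs (Group.IsSolvable ↥(closure ({x, y} : Set G))),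
    fun _ => Subgroup.mem_top y⟩

end Cfsg.Agent.H1.Solubilizer
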