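import Cfsg.Agent.H37.Twist.F4
import Mathlib.GroupTheory.SpecificGroups.Alternating

/-!
Conjugation between torus elements in a split Tits system is induced by the Weyl group, and an
alternating section `A₇` is impossible when a Sylow `7`-subgroup lies in the torus and the Weyl
group is a `2`-group.
-/
set_option autoImplicit false

namespace Cfsg.Agent.H1.TorusFusion

open Cfsg.Agent.H37

variable {G W : Type*} [Group G] [Group W] (A : Tits.Ambient G W)

/-- A torus element of the form `u * h` is `h` when `U` and `H` have coprime orders. -/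
theorem inf_eq_bot (hc : (Nat.card A.U).Coprime (Nat.card A.H)) : A.U ⊓ A.H = ⊥ :=
  (Subgroup.disjoint_of_coprime_natCard hc).eq_bot

/-- If `g` moves a set of torus elements into the torus, it acts on it as a representative of an
element of the Weyl group. -/
theorem exists_weyl (hc : (Nat.card A.U).Coprime (Nat.card A.H))
    (hab : ∀ a ∈ A.H, ∀ b ∈ A.H, a * b = b * a) (g : G) :
    ∃ w : W, ∀ p ∈ A.H, g * p * g⁻¹ ∈ A.H → g * p * g⁻¹ = A.n w * p * (A.n w)⁻¹ := by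
  obtain ⟨u, hu, h, hh, w, v, hv, rfl⟩ := A.exists_eq g
  refine ⟨w, fun p hp hp' => ?_⟩
  set n := A.n w
  have hv' : v ∈ A.U := A.Uw_le w hv
  set p' := u * h * n * v * p * (u * h * n * v)⁻¹ with hp'def
  have hnp : n * p * n⁻¹ ∈ A.H := A.n_conj_H w p hp
  -- `x` is the `U`-part of `v p v⁻¹`
  obtain ⟨x, hxU, hx⟩ : ∃ x ∈ A.U, v * p * v⁻¹ = x * p :=
    ⟨v * (p * v⁻¹ * p⁻¹), mul_mem hv' (A.H_conj_U p hp _ (inv_mem hv')), by group⟩
  -- `y` is the `U`-part of `(u h)⁻¹ p' (u h)`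
  obtain ⟨y, hyU, hy⟩ : ∃ y ∈ A.U, (u * h)⁻¹ * p' * (u * h) = y * p' := by
    refine ⟨h⁻¹ * (u⁻¹ * (p' * u * p'⁻¹)) * h⁻¹⁻¹,
      A.H_conj_U _ (inv_mem hh) _ (mul_mem (inv_mem hu) (A.H_conj_U p' hp' u hu)), ?_⟩
    have e : p'⁻¹ * h = h * p'⁻¹ := hab _ (inv_mem hp') _ hh
    calc (u * h)⁻¹ * p' * (u * h)
        = h⁻¹ * (u⁻¹ * (p' * u * p'⁻¹)) * p' * h := by group
      _ = h⁻¹ * (u⁻¹ * (p' * u * p'⁻¹)) * h * p' := by
          rw [mul_assoc _ p' h, hab p' hp' h hh, ← mul_assoc]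
      _ = _ := by group
  have key : n * x * n⁻¹ = y * (p' * (n * p * n⁻¹)⁻¹) := by
    have e1 : n * (v * p * v⁻¹) * n⁻¹ = (u * h)⁻¹ * p' * (u * h) := by rw [hp'def]; group
    rw [hx, hy] at e1
    rw [← mul_assoc y, ← e1]
    group
  -- the torus part `d` of a `U`-element's conjugate is trivial
  set d := p' * (n * p * n⁻¹)⁻¹ with hd
  have hdH : d ∈ A.H := mul_mem hp' (inv_mem hnp)
  have hpow : d ^ Nat.card A.U = 1 := by
    have hker : ∀ k : ℕ, (y * d) ^ k * (d ^ k)⁻¹ ∈ A.U := by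
      intro k
      induction k with
      | zero => simp
      | succ k ih =>
          have e : (y * d) ^ (k + 1) * (d ^ (k + 1))⁻¹ =
              ((y * d) ^ k * (d ^ k)⁻¹) * (d ^ k * y * (d ^ k)⁻¹) := by
            rw [pow_succ, pow_succ]; group
          rw [e]
          exact mul_mem ih (A.H_conj_U _ (pow_mem hdH k) y hyU)
    have h1 : (n * x * n⁻¹) ^ Nat.card A.U = 1 := by
      have hxk : x ^ Nat.card A.U = 1 :=
        congrArg Subtype.val (pow_card_eq_one' (x := (⟨x, hxU⟩ : A.U)))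
      rw [conj_pow, hxk]; group
    have h2 := hker (Nat.card A.U)
    rw [← key, h1, one_mul] at h2
    have h3 : (d ^ Nat.card A.U)⁻¹ ∈ A.U ⊓ A.H :=
      Subgroup.mem_inf.2 ⟨h2, inv_mem (pow_mem hdH (Nat.card A.U))⟩
    rw [inf_eq_bot A hc, Subgroup.mem_bot, inv_eq_one] at h3
    exact h3
  have hd1 : d = 1 := by
    have h4 : orderOf d ∣ Nat.card A.H := Subgroup.orderOf_dvd_natCard _ hdH
    have h5 : orderOf d ∣ Nat.card A.U := orderOf_dvd_of_pow_eq_one hpow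
    exact orderOf_eq_one_iff.1 (Nat.dvd_one.1 (hc ▸ Nat.dvd_gcd h5 h4))
  exact mul_inv_eq_one.1 hd1

/-- A power of a representative is a representative of the power, up to the torus. -/
theorem n_pow (w : W) : ∀ k : ℕ, ∃ h ∈ A.H, A.n w ^ k = h * A.n (w ^ k)
  | 0 => ⟨1, one_mem _, by simp [A.n_one]⟩
  | k + 1 => by
      obtain ⟨h, hh, e⟩ := n_pow w k
      obtain ⟨h', hh', e'⟩ := A.n_mul (w ^ k) w
      exact ⟨h * h', mul_mem hh hh', by rw [pow_succ, e, mul_assoc, e', pow_succ w k, mul_assoc]⟩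

/-- Elements normalising a subgroup of the torus act on it with exponent dividing the exponent
of the Weyl group. -/
theorem pow_centralizes (hc : (Nat.card A.U).Coprime (Nat.card A.H))
    (hab : ∀ a ∈ A.H, ∀ b ∈ A.H, a * b = b * a) (N : ℕ) (hN : ∀ w : W, w ^ N = 1)
    (Q : Subgroup G) (hQ : Q ≤ A.H) (t : G) (ht : ∀ q ∈ Q, t * q * t⁻¹ ∈ Q) :
    ∀ q ∈ Q, t ^ N * q * (t ^ N)⁻¹ = q := by
  obtain ⟨w, hw⟩ := exists_weyl A hc hab t
  have hiter : ∀ k : ℕ, ∀ q ∈ Q,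
      t ^ k * q * (t ^ k)⁻¹ = A.n w ^ k * q * (A.n w ^ k)⁻¹ ∧ t ^ k * q * (t ^ k)⁻¹ ∈ Q := by
    intro k
    induction k with
    | zero => intro q hq; simp [hq]
    | succ k ih =>
        intro q hq
        obtain ⟨e, hm⟩ := ih q hq
        have e2 := hw _ (hQ hm) (hQ (ht _ hm))
        have e3 : t ^ (k + 1) * q * (t ^ (k + 1))⁻¹ = t * (t ^ k * q * (t ^ k)⁻¹) * t⁻¹ := by
          rw [pow_succ']; group
        rw [e3]
        refine ⟨?_, ht _ hm⟩
        rw [e2, e, pow_succ']; group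
  intro q hq
  obtain ⟨h, hh, e⟩ := n_pow A w N
  rw [(hiter N q hq).1, e, hN, A.n_one, mul_one, hab h hh q (hQ hq)]
  group

/-- No section `A_r`, `r ≥ 7`, when the Sylow `7`-subgroup is in the torus and the Weyl group is a
`2`-group. -/
theorem alternating_section_le_six [Finite G] (hc : (Nat.card A.U).Coprime (Nat.card A.H))
    (hab : ∀ a ∈ A.H, ∀ b ∈ A.H, a * b = b * a) (hN : ∀ w : W, w ^ 16 = 1)
    (hind : ¬ 7 ∣ A.H.index) {r : ℕ} (H' : Subgroup G)
    (f : ↥H' →* ↥(alternatingGroup (Fin r))) (hf : Function.Surjective f) : r ≤ 6 := by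
  by_contra hr
  haveI : Fact (Nat.Prime 7) := ⟨by norm_num⟩
  let ι : Equiv.Perm (Fin 7) →* Equiv.Perm (Fin r) :=
    Equiv.Perm.viaEmbeddingHom (Fin.castLEEmb (by omega))
  have hι : Function.Injective ι := Equiv.Perm.viaEmbeddingHom_injective _
  have hsign : ∀ σ, Equiv.Perm.sign (ι σ) = Equiv.Perm.sign σ := by
    intro σ
    classical
    show Equiv.Perm.sign (σ.viaEmbedding _) = _
    unfold Equiv.Perm.viaEmbedding
    convert Equiv.Perm.sign_extendDomain σ _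
  let y₀ : Equiv.Perm (Fin 7) := finRotate 7
  let t₀ : Equiv.Perm (Fin 7) :=
    Equiv.swap 1 2 * Equiv.swap 2 4 * (Equiv.swap 3 6 * Equiv.swap 6 5)
  let y : ↥(alternatingGroup (Fin r)) :=
    ⟨ι y₀, by rw [Equiv.Perm.mem_alternatingGroup, hsign]; decide⟩
  let t : ↥(alternatingGroup (Fin r)) :=
    ⟨ι t₀, by rw [Equiv.Perm.mem_alternatingGroup, hsign]; decide⟩
  have hy7 : y ^ 7 = 1 := by
    apply Subtype.ext
    show ι y₀ ^ 7 = 1
    rw [← map_pow, show y₀ ^ 7 = 1 from by decide, map_one]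
  have hy1 : y ≠ 1 := by
    intro e
    have e' : ι y₀ = 1 := congrArg Subtype.val e
    exact absurd (hι (e'.trans (map_one ι).symm)) (by decide)
  have hty : t * y * t⁻¹ = y ^ 2 := by
    apply Subtype.ext
    show ι t₀ * ι y₀ * (ι t₀)⁻¹ = ι y₀ ^ 2
    rw [← map_mul, ← map_inv, ← map_mul, ← map_pow]
    exact congrArg ι (by decide)
  -- a Sylow subgroup of the preimage of `⟨y⟩`
  let L : Subgroup ↥H' := (Subgroup.zpowers y).comap f
  obtain ⟨t₁, ht₁⟩ := hf t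
  have htL : ∀ l ∈ L, t₁ * l * t₁⁻¹ ∈ L := by
    intro l hl
    obtain ⟨i, hi⟩ := Subgroup.mem_zpowers_iff.1 (Subgroup.mem_comap.1 hl)
    show f (t₁ * l * t₁⁻¹) ∈ Subgroup.zpowers y
    rw [map_mul, map_mul, map_inv, ht₁, ← hi, ← conj_zpow, hty]
    exact zpow_mem (pow_mem (Subgroup.mem_zpowers y) 2) i
  let Q : Sylow 7 ↥L := default
  let R : Subgroup ↥H' := (Q : Subgroup ↥L).map L.subtype
  -- the conjugate of `Q` by `t₁` is conjugate to `Q` in `L`
  have hRL : R ≤ L := by rintro _ ⟨q, -, rfl⟩; exact q.2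
  obtain ⟨l, hl, hlR⟩ : ∃ l ∈ L, R.map (MulAut.conj (l * t₁)).toMonoidHom ≤ R := by
    let R' : Subgroup ↥L := (R.map (MulAut.conj t₁).toMonoidHom).subgroupOf L
    have hR'p : IsPGroup 7 R' := by
      refine ((Q.isPGroup'.map L.subtype).map (MulAut.conj t₁).toMonoidHom).of_equiv
        (Subgroup.subgroupOfEquivOfLe ?_).symm
      rintro _ ⟨q, hq, rfl⟩
      exact htL q (hRL hq)
    obtain ⟨S, hS⟩ := hR'p.exists_le_sylow
    obtain ⟨l, hl⟩ := MulAction.exists_smul_eq ↥L S Q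
    refine ⟨l, l.2, ?_⟩
    rintro _ ⟨q, hq, rfl⟩
    have h1 : (⟨t₁ * q * t₁⁻¹, htL q (hRL hq)⟩ : ↥L) ∈ S :=
      hS (Subgroup.mem_subgroupOf.2 ⟨q, hq, rfl⟩)
    have h2 : l * ⟨t₁ * q * t₁⁻¹, htL q (hRL hq)⟩ * l⁻¹ ∈ Q := by
      rw [← hl]
      exact Subgroup.mem_map_of_mem (MulAut.conj l).toMonoidHom h1
    refine ⟨_, h2, ?_⟩
    simp only [Subgroup.coe_subtype, Subgroup.coe_mul, Subgroup.coe_inv, MulEquiv.coe_toMonoidHom,
      MulAut.conj_apply]
    group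
  set t₂ := l * t₁ with ht₂
  obtain ⟨i, hi⟩ := Subgroup.mem_zpowers_iff.1 (Subgroup.mem_comap.1 hl)
  have hconj : f t₂ * y * (f t₂)⁻¹ = y ^ 2 := by
    rw [ht₂, map_mul, ht₁, ← hi, show y ^ i * t * y * (y ^ i * t)⁻¹ = y ^ i * (t * y * t⁻¹) *
      (y ^ i)⁻¹ by group, hty]
    group
  have hpow : ∀ k : ℕ, f t₂ ^ k * y * (f t₂ ^ k)⁻¹ = y ^ (2 ^ k) := by
    intro k
    induction k with
    | zero => simp
    | succ k ih =>
        rw [pow_succ' (f t₂), show f t₂ * f t₂ ^ k * y * (f t₂ * f t₂ ^ k)⁻¹ =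
          f t₂ * (f t₂ ^ k * y * (f t₂ ^ k)⁻¹) * (f t₂)⁻¹ by group, ih, ← conj_pow, hconj,
          ← pow_mul, ← pow_succ']
  -- move `R` into the torus
  let RG : Subgroup G := R.map H'.subtype
  have hRG : IsPGroup 7 RG := (Q.isPGroup'.map _).map _
  let S₀ : Sylow 7 ↥A.H := default
  let P₀ : Subgroup G := (S₀ : Subgroup ↥A.H).map A.H.subtype
  have hP₀ : ¬ 7 ∣ P₀.index := by
    have e : P₀.index = (S₀ : Subgroup ↥A.H).index * A.H.index :=
      Subgroup.index_map_subtype _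
    rw [e]
    intro h
    rcases (Nat.Prime.dvd_mul (by norm_num)).1 h with h | h
    · exact S₀.not_dvd_index h
    · exact hind h
  let P : Sylow 7 G := (S₀.isPGroup'.map A.H.subtype).toSylow hP₀
  obtain ⟨S, hS⟩ := hRG.exists_le_sylow
  obtain ⟨g, hg⟩ := MulAction.exists_smul_eq G S P
  let QH : Subgroup G := RG.map (MulAut.conj g).toMonoidHom
  have hQH : QH ≤ A.H := by
    rintro _ ⟨q, hq, rfl⟩
    have h2 : (MulAut.conj g).toMonoidHom q ∈ P := by
      rw [← hg]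
      exact Subgroup.mem_map_of_mem (MulAut.conj g).toMonoidHom (hS hq)
    obtain ⟨z, -, hz⟩ := h2
    rw [← hz]
    exact z.2
  have hnorm : ∀ q ∈ QH, g * (t₂ : G) * g⁻¹ * q * (g * (t₂ : G) * g⁻¹)⁻¹ ∈ QH := by
    rintro _ ⟨_, ⟨q, hq, rfl⟩, rfl⟩
    refine ⟨H'.subtype (t₂ * q * t₂⁻¹), Subgroup.mem_map_of_mem _ (hlR ⟨q, hq, rfl⟩), ?_⟩
    simp only [Subgroup.coe_subtype, Subgroup.coe_mul, Subgroup.coe_inv, MulEquiv.coe_toMonoidHom,
      MulAut.conj_apply]
    group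
  -- `R` maps onto `⟨y⟩`
  obtain ⟨q, hqR, hq1⟩ : ∃ q ∈ R, f q ≠ 1 := by
    by_contra hcon
    push Not at hcon
    let φ : ↥L →* ↥(alternatingGroup (Fin r)) := f.comp L.subtype
    have hQk : (Q : Subgroup ↥L) ≤ φ.ker := fun q hq => hcon q ⟨q, hq, rfl⟩
    have h7 : φ.ker.index = 7 := by
      rw [Subgroup.index_ker, show φ.range = Subgroup.zpowers y from ?_, Nat.card_zpowers]
      · exact orderOf_eq_prime hy7 hy1
      · rw [MonoidHom.range_eq_map, ← Subgroup.map_map, ← MonoidHom.range_eq_map,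
          Subgroup.range_subtype]
        exact Subgroup.map_comap_eq_self_of_surjective hf _
    have hd := Subgroup.index_dvd_of_le hQk
    rw [h7] at hd
    exact Q.not_dvd_index hd
  have hcent := pow_centralizes A hc hab 16 hN QH hQH _ hnorm
    ((MulAut.conj g) (q : G)) ⟨q, ⟨q, hqR, rfl⟩, rfl⟩
  rw [MulAut.conj_apply, conj_pow] at hcent
  have hcent' : t₂ ^ 16 * q * (t₂ ^ 16)⁻¹ = q := Subtype.ext (by
    simp only [Subgroup.coe_mul, Subgroup.coe_inv, SubmonoidClass.coe_pow]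
    refine mul_left_cancel (a := g) (mul_right_cancel (b := g⁻¹) ?_)
    rw [← hcent]; group)
  obtain ⟨k, hk⟩ := Subgroup.mem_zpowers_iff.1 (Subgroup.mem_comap.1 (hRL hqR))
  have h1 := congrArg f hcent'
  rw [map_mul, map_mul, map_inv, map_pow, ← hk, ← conj_zpow, hpow, ← zpow_natCast y, ← zpow_mul,
    ← mul_inv_eq_one, ← zpow_neg, ← zpow_add] at h1
  have h2 := orderOf_dvd_iff_zpow_eq_one.2 h1
  rw [orderOf_eq_prime hy7 hy1] at h2
  push_cast at h2
  have h3 : (7 : ℤ) ∣ k := by omega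
  obtain ⟨c, rfl⟩ := h3
  refine hq1 (hk.symm.trans ?_)
  rw [zpow_mul, zpow_ofNat, hy7, one_zpow]

end Cfsg.Agent.H1.TorusFusion
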